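import Groth.Agent.Proper66.HOneLocal

/-! Vanishing of `H¹(X, O_X)` for proper schemes with one-dimensional fibres having `H¹ = 0`. -/

set_option autoImplicit false
set_option linter.style.haveILetI false
set_option linter.unusedSectionVars false
set_option backward.isDefEq.respectTransparency.types false

universe u

open CategoryTheory CategoryTheory.Limits AlgebraicGeometry TopologicalSpace Opposite
open Groth.Agent.QC70

noncomputable section

namespace Groth.Agent.Proper66

variable {X Z : Scheme.{u}}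

/-- The closed fibre of a scheme over a local ring, on an affine open. -/
theorem ker_residue {A : Type u} [CommRing A] [IsLocalRing A] (f : X ⟶ Spec (CommRingCat.of A)) {V : X.Opens}
    (hV : IsAffineOpen V) (b : Γ(X, V))
    (hb : (pullback.fst f (Spec.map (CommRingCat.ofHom (IsLocalRing.residue A)))).app V b = 0) :
    b ∈ (IsLocalRing.maximalIdeal A).map
      ((X.presheaf.map (homOfLE (le_top : V ≤ ⊤)).op).hom.comp (Coh.toGlobal f : A →+* Γ(X, ⊤))) := by
  let ρ : A →+* Γ(X, V) := (X.presheaf.map (homOfLE (le_top : V ≤ ⊤)).op).hom.comp (Coh.toGlobal f : A →+* Γ(X, ⊤))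
  let I := (IsLocalRing.maximalIdeal A).map ρ
  let q : Γ(X, V) ⟶ CommRingCat.of (Γ(X, V) ⧸ I) := CommRingCat.ofHom (Ideal.Quotient.mk I)
  let χ : CommRingCat.of (IsLocalRing.ResidueField A) ⟶ CommRingCat.of (Γ(X, V) ⧸ I) :=
    CommRingCat.ofHom (Ideal.Quotient.lift (IsLocalRing.maximalIdeal A) ((Ideal.Quotient.mk I).comp ρ) fun a ha =>
      Ideal.Quotient.eq_zero_iff_mem.2 (Ideal.mem_map_of_mem _ ha))
  have hρ : Spec.map (CommRingCat.ofHom ρ) = hV.fromSpec ≫ f := by
    have h1 := IsAffineOpen.SpecMap_appLE_fromSpec f (isAffineOpen_top _) hV (le_top : V ≤ f ⁻¹ᵁ ⊤)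
    rw [IsAffineOpen.fromSpec_top] at h1
    rw [← h1]
    have h2 : CommRingCat.ofHom ρ = (Scheme.ΓSpecIso (CommRingCat.of A)).inv ≫ f.appLE ⊤ V le_top := rfl
    rw [h2, Spec.map_comp, Scheme.isoSpec_Spec_inv]
  have hw : (Spec.map q ≫ hV.fromSpec) ≫ f = Spec.map χ ≫ Spec.map (CommRingCat.ofHom (IsLocalRing.residue A)) := by
    rw [Category.assoc, ← hρ, ← Spec.map_comp, ← Spec.map_comp]
    rfl
  let l := pullback.lift (Spec.map q ≫ hV.fromSpec) (Spec.map χ) hw
  have hl : l ≫ pullback.fst f _ = Spec.map q ≫ hV.fromSpec := pullback.lift_fst _ _ _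
  have h3 : q b = 0 := by
    have e1 : (l ≫ pullback.fst f _).app V b = 0 := by
      exact (congrArg (l.app ((pullback.fst f _) ⁻¹ᵁ V)).hom hb).trans (map_zero _)
    have key : ∀ (k : Spec (CommRingCat.of (Γ(X, V) ⧸ I)) ⟶ X), k = Spec.map q ≫ hV.fromSpec → k.app V b = 0 →
        q b = 0 := by
      rintro k rfl hk
      replace hk : (Spec.map q).app _ (hV.fromSpec.app V b) = 0 := hk
      rw [hV.fromSpec_app_self] at hk
      apply (ConcreteCategory.bijective_of_isIso (Scheme.ΓSpecIso (CommRingCat.of (Γ(X, V) ⧸ I))).inv).1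
      rw [map_zero]
      have hn := DFunLike.congr_fun (congrArg CommRingCat.Hom.hom (Scheme.ΓSpecIso_inv_naturality q)) b
      refine hn.trans ?_
      refine (ConcreteCategory.bijective_of_isIso
        ((Spec (CommRingCat.of (Γ(X, V) ⧸ I))).presheaf.map
          (eqToHom (show Spec.map q ⁻¹ᵁ hV.fromSpec ⁻¹ᵁ V = ⊤ by rw [hV.fromSpec_preimage_self]; rfl)).op)).1 ?_
      rw [map_zero]
      refine Eq.trans ?_ hk
      rfl
    exact key _ hl e1
  exact Ideal.Quotient.eq_zero_iff_mem.1 h3

/-- The vanishing over a local quotient `A` of a local flat algebra `P` over a Noetherian ring `S`. -/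
theorem subsingleton_h1_of_model {A P S : Type u} [CommRing A] [IsLocalRing A] [CommRing P] [IsLocalRing P]
    [CommRing S] [IsNoetherianRing S] [Algebra S P] [Module.Flat S P] (q : P →+* A) (hq : Function.Surjective q)
    (c : S →+* A) (hqc : q.comp (algebraMap S P) = c) (f : X ⟶ Spec (CommRingCat.of A)) [IsProper f] {X₀ : Scheme.{u}}
    (f₀ : X₀ ⟶ Spec (CommRingCat.of S)) [IsProper f₀] (hd₀ : ∀ s, topologicalKrullDim ↥(f₀.fiber s) ≤ (1 : ℕ))
    (j₀ : X ⟶ pullback f₀ (Spec.map (CommRingCat.ofHom c))) [IsClosedImmersion j₀]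
    (hjf : j₀ ≫ pullback.snd f₀ (Spec.map (CommRingCat.ofHom c)) = f)
    (hk : Subsingleton (Coh.HH (pullback f (Spec.map (CommRingCat.ofHom (IsLocalRing.residue A))))
      (Coh.structureModule (pullback f (Spec.map (CommRingCat.ofHom (IsLocalRing.residue A))))) 1)) :
    Subsingleton (Coh.HH X (Coh.structureModule X) 1) := by
  let sP := Spec.map (CommRingCat.ofHom (algebraMap S P))
  let sA := Spec.map (CommRingCat.ofHom c)
  let sq := Spec.map (CommRingCat.ofHom q)
  have hsA : sq ≫ sP = sA := by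
    rw [← Spec.map_comp]
    congr 1
    exact CommRingCat.hom_ext hqc
  haveI : IsClosedImmersion sq := IsClosedImmersion.spec_of_surjective _ hq
  let Z := pullback f₀ sP
  let m : pullback f₀ sA ⟶ Z := pullback.lift (pullback.fst _ _) (pullback.snd _ _ ≫ sq)
    (by rw [Category.assoc, hsA]; exact pullback.condition)
  have hm : IsPullback m (pullback.snd f₀ sA) (pullback.snd f₀ sP) sq := by
    refine IsPullback.of_right ?_ (pullback.lift_snd _ _ _) (IsPullback.of_hasPullback f₀ sP)
    rw [hsA, pullback.lift_fst]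
    exact IsPullback.of_hasPullback f₀ sA
  haveI : IsClosedImmersion m := MorphismProperty.of_isPullback hm.flip inferInstance
  let j : X ⟶ Z := j₀ ≫ m
  have hjs : j ≫ pullback.snd f₀ sP = f ≫ sq := by
    rw [Category.assoc, pullback.lift_snd, reassoc_of% hjf]
  haveI : IsProper (pullback.snd f₀ sP) := MorphismProperty.pullback_snd _ _ inferInstance
  let _ : Z.Over (Spec (CommRingCat.of P)) := ⟨pullback.snd f₀ sP⟩
  haveI : IsProper (Z ↘ Spec (CommRingCat.of P)) := ‹IsProper (pullback.snd f₀ sP)›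
  have hV : Vanish Z 2 := vanish_of_dims_le (pullback.snd f₀ sP) (d := 1)
    (dims_le_of_isPullback (IsPullback.of_hasPullback f₀ sP) hd₀) 2 (by omega)
  let _ : X₀.Over (Spec (CommRingCat.of S)) := ⟨f₀⟩
  haveI : IsProper (X₀ ↘ Spec (CommRingCat.of S)) := ‹IsProper f₀›
  haveI : IsLocallyNoetherian X₀ := LocallyOfFiniteType.isLocallyNoetherian f₀
  haveI : CompactSpace X₀ := QuasiCompact.compactSpace_of_compactSpace f₀
  haveI : QuasiSeparatedSpace X₀ := quasiSeparatedSpace_of_quasiSeparated f₀
  haveI : Module.Finite S (Coh.HH X₀ (Coh.structureModule X₀) 1) :=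
    Serre71.finite_hh_of_isProper S (Coh.structureModule X₀) isCoh_unit 1
  obtain ⟨e⟩ := nonempty_flat (A := S) (B := P) (X := X₀) (X' := Z) (pullback.fst _ _)
    (IsPullback.of_hasPullback f₀ sP) 1
  haveI : Module.Finite P (Coh.HH Z (Coh.structureModule Z) 1) :=
    Module.Finite.equiv (R := P) (M := TensorProduct S P (Coh.HH X₀ (Coh.structureModule X₀) 1)) e
  let res := Spec.map (CommRingCat.ofHom (IsLocalRing.residue A))
  haveI : IsClosedImmersion res := IsClosedImmersion.spec_of_surjective _ IsLocalRing.residue_surjective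
  haveI : IsClosedImmersion (pullback.fst f res) := MorphismProperty.pullback_fst _ _ inferInstance
  refine subsingleton_of_finite (P := P) j (pullback.fst f res) hV (fun U hU b hb => ?_) hk
  have h1 := ker_residue f (hU.preimage j) b hb
  let ρA : A →+* Γ(X, j ⁻¹ᵁ U) :=
    (X.presheaf.map (homOfLE (le_top : j ⁻¹ᵁ U ≤ ⊤)).op).hom.comp (Coh.toGlobal f : A →+* Γ(X, ⊤))
  have hcomp : (j.app U).hom.comp ((Z.presheaf.map (homOfLE (le_top : U ≤ ⊤)).op).hom.comp
      (Coh.toGlobal (Z ↘ Spec (CommRingCat.of P)) : P →+* Γ(Z, ⊤))) = ρA.comp q := by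
    ext a
    show j.app U (Z.presheaf.map _ ((pullback.snd f₀ sP).appTop ((Scheme.ΓSpecIso (CommRingCat.of P)).inv a))) =
      X.presheaf.map _ (f.appTop ((Scheme.ΓSpecIso (CommRingCat.of A)).inv (q a)))
    have e3 : (Scheme.ΓSpecIso (CommRingCat.of A)).inv (q a) = sq.appTop ((Scheme.ΓSpecIso (CommRingCat.of P)).inv a) :=
      DFunLike.congr_fun (congrArg CommRingCat.Hom.hom (Scheme.ΓSpecIso_inv_naturality (CommRingCat.ofHom q))) a
    rw [e3]
    have hn := fun z => ConcreteCategory.congr_hom (j.naturality (homOfLE (le_top : U ≤ ⊤)).op) z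
    refine (hn _).trans ?_
    show X.presheaf.map _ (j.appTop _) = _
    congr 1
    rw [← ConcreteCategory.comp_apply sq.appTop, ← Scheme.Hom.comp_appTop, ← hjs,
      Scheme.Hom.comp_appTop, ConcreteCategory.comp_apply]
    rfl
  have hmA : IsLocalRing.maximalIdeal A ≤ (IsLocalRing.maximalIdeal P).map q := fun a ha => by
    obtain ⟨b, rfl⟩ := hq a
    refine Ideal.mem_map_of_mem q ?_
    exact (IsLocalRing.mem_maximalIdeal b).2 fun hu => (IsLocalRing.mem_maximalIdeal _).1 ha (hu.map q)
  rw [hcomp, ← Ideal.map_map]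
  exact Ideal.map_mono hmA h1

/-- `H¹(X, O_X) = 0` over a local ring. -/
theorem subsingleton_h1_local {A : Type u} [CommRing A] [IsLocalRing A] (f : X ⟶ Spec (CommRingCat.of A)) [IsProper f]
    (hd : ∀ y, topologicalKrullDim ↥(f.fiber y) ≤ (1 : ℕ))
    (hk : Subsingleton (Coh.HH (pullback f (Spec.map (CommRingCat.ofHom (IsLocalRing.residue A))))
      (Coh.structureModule (pullback f (Spec.map (CommRingCat.ofHom (IsLocalRing.residue A))))) 1)) :
    Subsingleton (Coh.HH X (Coh.structureModule X) 1) := by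
  obtain ⟨S, X₀, f₀, j₀, hf₀, hd₀, hj₀, hjf⟩ := exists_model f 1 hd
  haveI := hf₀
  haveI := hj₀
  haveI : IsNoetherianRing S.1 := by
    haveI : Algebra.FiniteType ℤ S.1 := S.1.fg_iff_finiteType.1 S.2
    exact Algebra.FiniteType.isNoetherianRing ℤ S.1
  let ev : MvPolynomial A S.1 →+* A := MvPolynomial.eval₂Hom S.1.val.toRingHom id
  let M := (IsLocalRing.maximalIdeal A).comap ev
  let q : Localization.AtPrime M →+* A := IsLocalization.lift (M := M.primeCompl) (g := ev) fun y =>
    not_not.1 fun hu => y.2 ((IsLocalRing.mem_maximalIdeal _).2 hu)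
  have hq : Function.Surjective q := fun a =>
    ⟨algebraMap (MvPolynomial A S.1) _ (MvPolynomial.X a), by simp [q, ev, IsLocalization.lift_eq]⟩
  have hqc : q.comp (algebraMap S.1 (Localization.AtPrime M)) = S.1.val.toRingHom := by
    ext a
    simp [q, ev, IsScalarTower.algebraMap_apply S.1 (MvPolynomial A S.1) (Localization.AtPrime M),
      IsLocalization.lift_eq, MvPolynomial.algebraMap_eq]
  haveI : Module.Flat (MvPolynomial A S.1) (Localization.AtPrime M) :=
    IsLocalization.flat (Localization.AtPrime M) M.primeCompl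
  haveI : Module.Flat S.1 (Localization.AtPrime M) := Module.Flat.trans S.1 (MvPolynomial A S.1) (Localization.AtPrime M)
  exact subsingleton_h1_of_model (A := A) (P := Localization.AtPrime M) (S := S.1) q hq _ hqc f f₀ hd₀ j₀ hjf hk

/-- `H¹(X, O_X) = 0`. -/
theorem subsingleton_h1 {A : Type u} [CommRing A] (f : X ⟶ Spec (CommRingCat.of A)) [IsProper f]
    (hd : ∀ y, topologicalKrullDim ↥(f.fiber y) ≤ (1 : ℕ)) (hf : HFib f) :
    Subsingleton (Coh.HH X (Coh.structureModule X) 1) := by
  haveI : CompactSpace X := QuasiCompact.compactSpace_of_compactSpace f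
  haveI : QuasiSeparatedSpace X := quasiSeparatedSpace_of_quasiSeparated f
  let _ : X.Over (Spec (CommRingCat.of A)) := ⟨f⟩
  let M := Coh.HH X (Coh.structureModule X) 1
  haveI hloc : ∀ (P : Ideal A) [P.IsMaximal], IsLocalizedModule P.primeCompl
      (TensorProduct.mk A (Localization.AtPrime P) M 1) := fun P _ =>
    (isLocalizedModule_iff_isBaseChange P.primeCompl (Localization.AtPrime P) _).2
      (TensorProduct.isBaseChange A M (Localization.AtPrime P))
  refine Module.subsingleton_of_localization_maximal (fun (P : Ideal A) [P.IsMaximal] =>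
      TensorProduct A (Localization.AtPrime P) M)
    (fun P _ => TensorProduct.mk A (Localization.AtPrime P) M 1) fun P _ => ?_
  let g := Spec.map (CommRingCat.ofHom (algebraMap A (Localization.AtPrime P)))
  let X' := pullback f g
  let _ : X'.Over (Spec (CommRingCat.of (Localization.AtPrime P))) := ⟨pullback.snd f g⟩
  haveI : IsProper (pullback.snd f g) := MorphismProperty.pullback_snd _ _ inferInstance
  obtain ⟨e⟩ := nonempty_flat (A := A) (B := Localization.AtPrime P) (X := X) (X' := X') (pullback.fst _ _)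
    (IsPullback.of_hasPullback f g) 1
  haveI := subsingleton_h1_local (pullback.snd f g) (dims_le_of_isPullback (IsPullback.of_hasPullback f g) hd)
    (hf.of_isPullback (IsPullback.of_hasPullback f g) _ _)
  exact e.toEquiv.subsingleton

end Groth.Agent.Proper66
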