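import Groth.Agent.Proper66.HOne
import Groth.Agent.Var76.HHPush

/-! Base change and finiteness of `H¹(X, O_X)` for proper schemes with fibres of dimension at most one. -/

set_option autoImplicit false
set_option linter.style.haveILetI false
set_option linter.unusedSectionVars false
set_option backward.isDefEq.respectTransparency.types false

universe u

open CategoryTheory CategoryTheory.Limits AlgebraicGeometry TopologicalSpace Opposite
open Groth.Agent.QC70

noncomputable section

namespace Groth.Agent.Proper66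

variable {X Z : Scheme.{u}}

theorem epi_unitToPush (j : X ⟶ Z) [IsClosedImmersion j] : Epi (ClSub.unitToPush j) :=
  epi_of_locally_surjective _ fun U s p hp => by
    obtain ⟨V, hV', hpV, hle⟩ := exists_isAffineOpen_mem_and_subset (x := p) (U := U) hp
    obtain ⟨t, ht⟩ := j.app_surjective V hV' (res _ (hle : V ≤ U) s)
    exact ⟨V, hle, t, hpV, ht⟩

/-- Vanishing passes to closed subschemes. -/
theorem subsingleton_h1_closed {P : Type u} [CommRing P] (z : Z ⟶ Spec (CommRingCat.of P)) [IsProper z]
    (hV : Vanish Z 2) (h : Subsingleton (Coh.HH Z (Coh.structureModule Z) 1)) (j : X ⟶ Z) [IsClosedImmersion j] :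
    Subsingleton (Coh.HH X (Coh.structureModule X) 1) := by
  let _ : Z.Over (Spec (CommRingCat.of P)) := ⟨z⟩
  haveI : CompactSpace Z := QuasiCompact.compactSpace_of_compactSpace z
  haveI : QuasiSeparatedSpace Z := quasiSeparatedSpace_of_quasiSeparated z
  haveI : (Coh.structureModule X).IsQuasicoherent := isQuasicoherent_unit
  haveI : (Coh.structureModule Z).IsQuasicoherent := isQuasicoherent_unit
  haveI : ((Coh.push j).obj (Coh.structureModule X)).IsQuasicoherent := QCqs72.isQuasicoherent_pushforward _ j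
  haveI := epi_unitToPush j
  haveI : Subsingleton (Coh.HH Z ((Coh.push j).obj (Coh.structureModule X)) 1) :=
    (hmap_surjective_of_epi (A := P) hV (ClSub.unitToPush j)).subsingleton
  obtain ⟨e⟩ := Coh69.nonempty_hh_push j (Coh.structureModule X) 1
  exact e.toEquiv.subsingleton

/-- Base change to a polynomial ring, closed embedding of the base change to a quotient. -/
theorem exists_closed_in_flat {A B : Type u} [CommRing A] [CommRing B] (f : X ⟶ Spec (CommRingCat.of A))
    (φ : A →+* B) {X' : Scheme.{u}} (f' : X' ⟶ Spec (CommRingCat.of B)) (g : X' ⟶ X)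
    (sq : IsPullback g f' f (Spec.map (CommRingCat.ofHom φ))) :
    ∃ (q : MvPolynomial B A →+* B) (j : X' ⟶ pullback f (Spec.map (CommRingCat.ofHom (algebraMap A (MvPolynomial B A))))),
      Function.Surjective q ∧ IsClosedImmersion j ∧ q.comp (algebraMap A (MvPolynomial B A)) = φ ∧
      j ≫ pullback.snd _ _ = f' ≫ Spec.map (CommRingCat.ofHom q) ∧
      IsPullback j f' (pullback.snd _ _) (Spec.map (CommRingCat.ofHom q)) ∧
      j ≫ pullback.fst _ _ = g := by
  let q : MvPolynomial B A →+* B := MvPolynomial.eval₂Hom φ id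
  have hq : Function.Surjective q := fun b => ⟨MvPolynomial.X b, by simp [q]⟩
  have hqc : q.comp (algebraMap A (MvPolynomial B A)) = φ := by ext a; simp [q, MvPolynomial.algebraMap_eq]
  let sP := Spec.map (CommRingCat.ofHom (algebraMap A (MvPolynomial B A)))
  let sq' := Spec.map (CommRingCat.ofHom q)
  have hsA : sq' ≫ sP = Spec.map (CommRingCat.ofHom φ) := by
    rw [← Spec.map_comp]
    congr 1
    exact CommRingCat.hom_ext hqc
  haveI : IsClosedImmersion sq' := IsClosedImmersion.spec_of_surjective _ hq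
  let j : X' ⟶ pullback f sP := pullback.lift g (f' ≫ sq') (by rw [Category.assoc, hsA]; exact sq.w)
  have hj : IsPullback j f' (pullback.snd f sP) sq' := by
    refine IsPullback.of_right ?_ (pullback.lift_snd _ _ _) (IsPullback.of_hasPullback f sP)
    rw [hsA, pullback.lift_fst]
    exact sq
  exact ⟨q, j, hq, MorphismProperty.of_isPullback hj.flip inferInstance, hqc, pullback.lift_snd _ _ _, hj,
    pullback.lift_fst _ _ _⟩

/-- Vanishing of `H¹` is stable under base change. -/
theorem subsingleton_h1_bc {A B : Type u} [CommRing A] [CommRing B] (f : X ⟶ Spec (CommRingCat.of A)) [IsProper f]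
    (hd : ∀ y, topologicalKrullDim ↥(f.fiber y) ≤ (1 : ℕ)) (h : Subsingleton (Coh.HH X (Coh.structureModule X) 1))
    (φ : A →+* B) {X' : Scheme.{u}} (f' : X' ⟶ Spec (CommRingCat.of B)) (g : X' ⟶ X)
    (sq : IsPullback g f' f (Spec.map (CommRingCat.ofHom φ))) :
    Subsingleton (Coh.HH X' (Coh.structureModule X') 1) := by
  obtain ⟨q, j, -, hj, -, -, -, -⟩ := exists_closed_in_flat f φ f' g sq
  haveI := hj
  let P := MvPolynomial B A
  let sP := Spec.map (CommRingCat.ofHom (algebraMap A P))
  let _ : X.Over (Spec (CommRingCat.of A)) := ⟨f⟩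
  haveI : CompactSpace X := QuasiCompact.compactSpace_of_compactSpace f
  haveI : QuasiSeparatedSpace X := quasiSeparatedSpace_of_quasiSeparated f
  haveI : IsProper (pullback.snd f sP) := MorphismProperty.pullback_snd _ _ inferInstance
  let _ : (pullback f sP).Over (Spec (CommRingCat.of P)) := ⟨pullback.snd f sP⟩
  obtain ⟨e⟩ := nonempty_flat (A := A) (B := P) (X := X) (X' := pullback f sP) (pullback.fst _ _)
    (IsPullback.of_hasPullback f sP) 1
  have hZ : Subsingleton (Coh.HH (pullback f sP) (Coh.structureModule (pullback f sP)) 1) :=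
    e.symm.toEquiv.subsingleton
  exact subsingleton_h1_closed (pullback.snd f sP)
    (vanish_of_dims_le (pullback.snd f sP) (d := 1) (dims_le_of_isPullback (IsPullback.of_hasPullback f sP) hd) 2
      (by omega)) hZ j

/-- The fibres of a family with vanishing `H¹` have vanishing `H¹`. -/
theorem hFib_of_h1 {A : Type u} [CommRing A] (f : X ⟶ Spec (CommRingCat.of A)) [IsProper f]
    (hd : ∀ y, topologicalKrullDim ↥(f.fiber y) ≤ (1 : ℕ)) (h : Subsingleton (Coh.HH X (Coh.structureModule X) 1)) :
    HFib f := fun K _ g =>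
  subsingleton_h1_bc f hd h (Spec.preimage g).hom (pullback.snd f g) (pullback.fst f g)
    (by rw [CommRingCat.ofHom_hom, Spec.map_preimage]; exact IsPullback.of_hasPullback f g)

/-- Finiteness given a Noetherian model. -/
theorem finite_h1_of_model {A S : Type u} [CommRing A] [CommRing S] [IsNoetherianRing S] (c : S →+* A)
    (f : X ⟶ Spec (CommRingCat.of A)) [IsProper f] {X₀ : Scheme.{u}}
    (f₀ : X₀ ⟶ Spec (CommRingCat.of S)) [IsProper f₀] (hd₀ : ∀ s, topologicalKrullDim ↥(f₀.fiber s) ≤ (1 : ℕ))
    (j₀ : X ⟶ pullback f₀ (Spec.map (CommRingCat.ofHom c))) [IsClosedImmersion j₀]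
    (hjf : j₀ ≫ pullback.snd f₀ (Spec.map (CommRingCat.ofHom c)) = f) [iX : X.Over (Spec (CommRingCat.of A))]
    (hiX : X ↘ Spec (CommRingCat.of A) = f) :
    Module.Finite A (Coh.HH X (Coh.structureModule X) 1) := by
  let sA := Spec.map (CommRingCat.ofHom c)
  obtain ⟨q, j₁, hq, hj₁, -, hj₁s, -, -⟩ := exists_closed_in_flat f₀ c (pullback.snd f₀ sA)
    (pullback.fst f₀ sA) (IsPullback.of_hasPullback f₀ sA)
  haveI := hj₁
  let P := MvPolynomial A S
  let sP := Spec.map (CommRingCat.ofHom (algebraMap S P))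
  let Z := pullback f₀ sP
  let j : X ⟶ Z := j₀ ≫ j₁
  haveI : IsProper (pullback.snd f₀ sP) := MorphismProperty.pullback_snd _ _ inferInstance
  let _ : Z.Over (Spec (CommRingCat.of P)) := ⟨pullback.snd f₀ sP⟩
  haveI : IsProper (Z ↘ Spec (CommRingCat.of P)) := ‹IsProper (pullback.snd f₀ sP)›
  haveI : CompactSpace Z := QuasiCompact.compactSpace_of_compactSpace (pullback.snd f₀ sP)
  haveI : QuasiSeparatedSpace Z := quasiSeparatedSpace_of_quasiSeparated (pullback.snd f₀ sP)
  let _ : X₀.Over (Spec (CommRingCat.of S)) := ⟨f₀⟩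
  haveI : IsProper (X₀ ↘ Spec (CommRingCat.of S)) := ‹IsProper f₀›
  haveI : IsLocallyNoetherian X₀ := LocallyOfFiniteType.isLocallyNoetherian f₀
  haveI : CompactSpace X₀ := QuasiCompact.compactSpace_of_compactSpace f₀
  haveI : QuasiSeparatedSpace X₀ := quasiSeparatedSpace_of_quasiSeparated f₀
  haveI : Module.Finite S (Coh.HH X₀ (Coh.structureModule X₀) 1) :=
    Serre71.finite_hh_of_isProper S (Coh.structureModule X₀) isCoh_unit 1
  obtain ⟨e⟩ := nonempty_flat (A := S) (B := P) (X := X₀) (X' := Z) (pullback.fst _ _)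
    (IsPullback.of_hasPullback f₀ sP) 1
  haveI : Module.Finite P (Coh.HH Z (Coh.structureModule Z) 1) :=
    Module.Finite.equiv (R := P) (M := TensorProduct S P (Coh.HH X₀ (Coh.structureModule X₀) 1)) e
  haveI : (Coh.structureModule X).IsQuasicoherent := isQuasicoherent_unit
  haveI : (Coh.structureModule Z).IsQuasicoherent := isQuasicoherent_unit
  haveI hG : ((Coh.push j).obj (Coh.structureModule X)).IsQuasicoherent := QCqs72.isQuasicoherent_pushforward _ j
  haveI := epi_unitToPush j
  haveI : Module.Finite P (Coh.HH Z ((Coh.push j).obj (Coh.structureModule X)) 1) :=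
    Module.Finite.of_surjective _ (hmap_surjective_of_epi (A := P)
      (vanish_of_dims_le (pullback.snd f₀ sP) (d := 1) (dims_le_of_isPullback (IsPullback.of_hasPullback f₀ sP) hd₀) 2
        (by omega)) (ClSub.unitToPush j))
  let iP : X.Over (Spec (CommRingCat.of P)) := ⟨f ≫ Spec.map (CommRingCat.ofHom q)⟩
  obtain ⟨ε⟩ := Var76.nonempty_hhLin_push (A := P) (X := X) (S := Z) j
    (by show j ≫ pullback.snd f₀ sP = f ≫ _; rw [Category.assoc, hj₁s, reassoc_of% hjf]) (Coh.structureModule X) hG 1
  obtain ⟨T, hT⟩ := (Module.Finite.equiv ε).fg_top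
  refine ⟨⟨T, top_le_iff.1 fun x _ => ?_⟩⟩
  have hx : x ∈ Submodule.span P (T : Set (Coh.HH X (Coh.structureModule X) 1)) := hT ▸ trivial
  have key : ∀ (p : P) (y : Coh.HH X (Coh.structureModule X) 1), p • y = q p • y := by
    intro p y
    refine (Crv77.smul_eq_comp P (Coh.structureModule X) 1 p y).trans (Eq.trans ?_
      (Crv77.smul_eq_comp A (Coh.structureModule X) 1 (q p) y).symm)
    congr 3
    show (f ≫ Spec.map (CommRingCat.ofHom q)).appTop ((Scheme.ΓSpecIso (CommRingCat.of P)).inv p) =
      (X ↘ Spec (CommRingCat.of A)).appTop ((Scheme.ΓSpecIso (CommRingCat.of A)).inv (q p))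
    rw [hiX]
    exact congrArg f.appTop.hom
      (DFunLike.congr_fun (congrArg CommRingCat.Hom.hom (Scheme.ΓSpecIso_inv_naturality (CommRingCat.ofHom q))) p).symm
  induction hx using Submodule.span_induction with
  | mem y hy => exact Submodule.subset_span hy
  | zero => exact zero_mem _
  | add a b _ _ ha hb => exact add_mem (ha trivial) (hb trivial)
  | smul p y _ hy => rw [key]; exact Submodule.smul_mem _ _ (hy trivial)

/-- `H¹(X, O_X)` is a finite module. -/
theorem finite_h1 {A : Type u} [CommRing A] (f : X ⟶ Spec (CommRingCat.of A)) [IsProper f]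
    (hd : ∀ y, topologicalKrullDim ↥(f.fiber y) ≤ (1 : ℕ)) [iX : X.Over (Spec (CommRingCat.of A))]
    (hiX : X ↘ Spec (CommRingCat.of A) = f) :
    Module.Finite A (Coh.HH X (Coh.structureModule X) 1) := by
  obtain ⟨S, X₀, f₀, j₀, hf₀, hd₀, hj₀, hjf⟩ := exists_model f 1 hd
  haveI := hf₀
  haveI := hj₀
  haveI : IsNoetherianRing S.1 := by
    haveI : Algebra.FiniteType ℤ S.1 := S.1.fg_iff_finiteType.1 S.2
    exact Algebra.FiniteType.isNoetherianRing ℤ S.1
  exact finite_h1_of_model S.1.val.toRingHom f f₀ hd₀ j₀ hjf hiX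

end Groth.Agent.Proper66
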