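import Groth.Agent.Proper66.VanishRpush
import Groth.Prelude.Def_ClSub2
import Groth.Prelude.Def_PicLoc

/-! Generalities on the first cohomology of the structure sheaf. -/

set_option autoImplicit false
set_option linter.style.haveILetI false
set_option linter.unusedSectionVars false
set_option backward.isDefEq.respectTransparency.types false

universe u

open CategoryTheory CategoryTheory.Limits AlgebraicGeometry TopologicalSpace Opposite
open Groth.Agent.QC70

noncomputable section

namespace Groth.Agent.Proper66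

variable {X Z : Scheme.{u}}

theorem smul_mem_span {A : Type u} [CommRing A] [Z.Over (Spec (CommRingCat.of A))] (G : Z.Modules) (a : A)
    (U : Z.Opens) (t : Γ(G, U)) :
    (gmul G (Coh.toGlobal (Z ↘ Spec (CommRingCat.of A)) a)).app U t =
      resO Z (le_top : U ≤ ⊤) (show Γ(Z, ⊤) from Coh.toGlobal (Z ↘ Spec (CommRingCat.of A)) a) • t := rfl

/-- Morphisms out of a quasi-coherent module vanishing on an affine cover vanish. -/
theorem hom_eq_zero {M N : Z.Modules} [M.IsQuasicoherent] (φ : M ⟶ N) {ι : Type u} (U : ι → Z.Opens)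
    (hU : ∀ i, IsAffineOpen (U i)) (hcov : ⨆ i, U i = ⊤) (h : ∀ i (t : Γ(M, U i)), φ.app (U i) t = 0) : φ = 0 := by
  ext W s
  refine section_ext N _ _ fun p hp => ?_
  obtain ⟨i, hi⟩ := Opens.mem_iSup.1 (hcov.ge (trivial : p ∈ (⊤ : Z.Opens)))
  refine ⟨W ⊓ U i, inf_le_left, ⟨hp, hi⟩, ?_⟩
  have e := HomOn.ext_of_affine (hU i) (isLocAt_of_isQuasicoherent M (hU i)) (HomOn.ofHom φ (U i))
    (HomOn.ofHom (0 : M ⟶ N) (U i)) (LinearMap.ext fun t => by rw [HomOn.ofHom_app, HomOn.ofHom_app, h]; rfl)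
    (inf_le_right : W ⊓ U i ≤ U i) (res M inf_le_left s)
  rw [HomOn.ofHom_app, HomOn.ofHom_app] at e
  rw [← app_res, ← app_res]
  exact e

/-- Classes in a quasi-coherent module come from quasi-coherent submodules of finite type. -/
theorem exists_finiteType_class {A : Type u} [CommRing A] [Z.Over (Spec (CommRingCat.of A))] [CompactSpace Z]
    [QuasiSeparatedSpace Z] (K : Z.Modules) [K.IsQuasicoherent] (p : ℕ) (z : Coh.HH Z K p) :
    ∃ (G : Z.Modules) (u : G ⟶ K), G.IsQuasicoherent ∧ G.IsFiniteType ∧ z ∈ Set.range (Crv77.hmap A u p) := by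
  obtain ⟨I, _, _, D, c, hc, hD, rfl⟩ := QCFilt57.exists_diagram K ‹_›
  let T := SheafOfModules.toSheaf.{u} Z.ringCatSheaf
  let F := D ⋙ T
  haveI := QCAlgMod72.preservesColimitsOfShape_toSheaf Z.ringCatSheaf I
  let e : Limits.colimit F ≅ Coh.toAb c.pt :=
    (Limits.colimit.isColimit F).coconePointUniqueUpToIso (Limits.isColimitOfPreserves T hc)
  obtain ⟨k, x, hx⟩ := (TopCoh49.colim_E (X := Z.carrier) (U := ⊤) isCompact_univ p F).1
    (Abelian.Ext.comp (Coh69.hhEquiv c.pt p z) (Abelian.Ext.mk₀ e.inv) (add_zero p))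
  haveI : (D.obj k).IsFinitePresentation := hD k
  refine ⟨D.obj k, c.ι.app k, inferInstance, inferInstance, (Coh69.hhEquiv (D.obj k) p).symm x, ?_⟩
  apply (Coh69.hhEquiv c.pt p).injective
  have key : Coh69.hhEquiv c.pt p (Crv77.hmap A (c.ι.app k) p ((Coh69.hhEquiv (D.obj k) p).symm x)) =
      Abelian.Ext.comp x (Abelian.Ext.mk₀ (T.map (c.ι.app k))) (add_zero p) := by
    obtain ⟨w, rfl⟩ := (Coh69.hhEquiv (D.obj k) p).surjective x
    rw [AddEquiv.symm_apply_apply]
    exact Coh69.hTerminalEquiv_map isTerminalTop (T.map (c.ι.app k)) p w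
  rw [key]
  have h1 : Coh69.hhEquiv c.pt p z = Abelian.Ext.comp (Abelian.Ext.comp (Coh69.hhEquiv c.pt p z)
      (Abelian.Ext.mk₀ e.inv) (add_zero p)) (Abelian.Ext.mk₀ e.hom) (add_zero p) := by
    rw [Abelian.Ext.comp_assoc_of_second_deg_zero, Abelian.Ext.mk₀_comp_mk₀, e.inv_hom_id, Abelian.Ext.comp_mk₀_id]
  rw [h1, ← hx]
  refine Eq.symm ((Crv77.ext_comp_comp x _ _).trans ?_)
  congr 2
  exact (Limits.colimit.isColimit F).comp_coconePointUniqueUpToIso_hom _ k

/-- All fibres have vanishing `H¹` of the structure sheaf, after any field extension. -/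
def HFib {Y : Scheme.{u}} (f : X ⟶ Y) : Prop :=
  ∀ (K : Type u) [Field K] (g : Spec (CommRingCat.of K) ⟶ Y),
    Subsingleton (Coh.HH (pullback f g) (Coh.structureModule (pullback f g)) 1)

theorem subsingleton_of_iso {X' : Scheme.{u}} (e : X ≅ X') (p : ℕ)
    (h : Subsingleton (Coh.HH X (Coh.structureModule X) p)) : Subsingleton (Coh.HH X' (Coh.structureModule X') p) := by
  let _ : X'.Over (Spec (CommRingCat.of (ULift.{u} ℤ))) := ⟨specULiftZIsTerminal.from X'⟩
  haveI : (Coh.structureModule X).IsQuasicoherent := isQuasicoherent_unit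
  haveI : IsIso (ClSub.unitToPush e.hom) := by
    rw [Scheme.Modules.Hom.isIso_iff_isIso_app]
    intro V
    refine (ConcreteCategory.isIso_iff_bijective _).mpr ?_
    exact ConcreteCategory.bijective_of_isIso (e.hom.app V)
  obtain ⟨e₁⟩ := Coh69.nonempty_hh_push e.hom (Coh.structureModule X) p
  haveI := e₁.symm.toEquiv.subsingleton
  refine ⟨fun a b => ?_⟩
  rw [← Crv77.hmap_id (ULift.{u} ℤ) _ p a, ← Crv77.hmap_id (ULift.{u} ℤ) _ p b,
    ← (asIso (ClSub.unitToPush e.hom)).hom_inv_id, ← Crv77.hmap_comp, ← Crv77.hmap_comp]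
  exact congrArg _ (Subsingleton.elim _ _)

theorem HFib.of_isPullback {Y Y' X' : Scheme.{u}} {f : X ⟶ Y} {f' : X' ⟶ Y'} {g : Y' ⟶ Y} {g' : X' ⟶ X}
    (h : HFib f) (sq : IsPullback g' f' f g) : HFib f' := fun K _ k =>
  subsingleton_of_iso (((IsPullback.of_hasPullback f' k).paste_horiz sq).isoPullback).symm 1 (h K (k ≫ g))

/-- The flat base change for the structure sheaf. -/
theorem nonempty_flat {A B : Type u} [CommRing A] [CommRing B] [Algebra A B] [Module.Flat A B]
    [X.Over (Spec (CommRingCat.of A))] [CompactSpace X] [QuasiSeparatedSpace X] {X' : Scheme.{u}}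
    [X'.Over (Spec (CommRingCat.of B))] (g : X' ⟶ X)
    (sq : IsPullback g (X' ↘ Spec (CommRingCat.of B)) (X ↘ Spec (CommRingCat.of A))
      (Spec.map (CommRingCat.ofHom (algebraMap A B)))) (p : ℕ) :
    Nonempty (TensorProduct A B (Coh.HH X (Coh.structureModule X) p) ≃ₗ[B] Coh.HH X' (Coh.structureModule X') p) := by
  haveI : (Coh.structureModule X).IsQuasicoherent := isQuasicoherent_unit
  obtain ⟨e⟩ := Coh69.FlatBC.nonempty_hh_flat (X ↘ Spec (CommRingCat.of A)) (X' ↘ Spec (CommRingCat.of B)) g sq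
    (Coh.structureModule X) rfl rfl p
  exact ⟨e.trans (Crv77.hEquiv B (PicLoc.pullbackStructureIso g) p)⟩

/-- Field extensions do not matter for `H¹` of the fibres. -/
theorem hFib_of_fibres {Y : Scheme.{u}} (f : X ⟶ Y) [QuasiCompact f] [QuasiSeparated f]
    (h : ∀ y : Y, Subsingleton (Coh.HH (f.fiber y) (Coh.structureModule (f.fiber y)) 1)) : HFib f := by
  intro K _ g
  let y := g (IsLocalRing.closedPoint K)
  let φ : Y.residueField y ⟶ CommRingCat.of K := Y.descResidueField (Scheme.stalkClosedPointTo g)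
  have hg : Spec.map φ ≫ Y.fromSpecResidueField y = g :=
    Scheme.descResidueField_stalkClosedPointTo_fromSpecResidueField K Y g
  algebraize [φ.hom]
  let _ : (f.fiber y).Over (Spec (CommRingCat.of (Y.residueField y))) := ⟨f.fiberToSpecResidueField y⟩
  haveI : QuasiCompact (f.fiberToSpecResidueField y) := MorphismProperty.pullback_snd _ _ inferInstance
  haveI : QuasiSeparated (f.fiberToSpecResidueField y) := MorphismProperty.pullback_snd _ _ inferInstance
  haveI : CompactSpace (f.fiber y) := QuasiCompact.compactSpace_of_compactSpace (f.fiberToSpecResidueField y)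
  haveI : QuasiSeparatedSpace (f.fiber y) := quasiSeparatedSpace_of_quasiSeparated (f.fiberToSpecResidueField y)
  let X' := pullback (f.fiberToSpecResidueField y) (Spec.map φ)
  let _ : X'.Over (Spec (CommRingCat.of K)) := ⟨pullback.snd _ _⟩
  obtain ⟨e⟩ := nonempty_flat (A := Y.residueField y) (B := K) (X := f.fiber y) (X' := X') (pullback.fst _ _)
    (IsPullback.of_hasPullback _ _) 1
  haveI := h y
  have h' : Subsingleton (Coh.HH X' (Coh.structureModule X') 1) := e.symm.toEquiv.subsingleton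
  refine subsingleton_of_iso ?_ 1 h'
  exact (pullbackLeftPullbackSndIso f (Y.fromSpecResidueField y) (Spec.map φ)) ≪≫
    pullback.congrHom rfl hg

end Groth.Agent.Proper66
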