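import Groth.Agent.Proper66.HOneBC

/-! `H¹` of globally generated quasi-coherent modules. -/

set_option autoImplicit false
set_option linter.style.haveILetI false
set_option linter.unusedSectionVars false
set_option backward.isDefEq.respectTransparency.types false

universe u

open CategoryTheory CategoryTheory.Limits AlgebraicGeometry TopologicalSpace Opposite
open Groth.Agent.QC70

noncomputable section

namespace Groth.Agent.Proper66

variable {X : Scheme.{u}}

/-- Cohomology classes of a filtered colimit come from a stage. -/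
theorem exists_stage_class {A : Type u} [CommRing A] [Z : X.Over (Spec (CommRingCat.of A))] [CompactSpace X]
    [QuasiSeparatedSpace X] {I : Type u} [SmallCategory I] [IsFiltered I] {D : I ⥤ X.Modules} (c : Cocone D)
    (hc : IsColimit c) (p : ℕ) (z : Coh.HH X c.pt p) :
    ∃ (k : I) (y : Coh.HH X (D.obj k) p), Crv77.hmap A (c.ι.app k) p y = z := by
  let T := SheafOfModules.toSheaf.{u} X.ringCatSheaf
  let F := D ⋙ T
  haveI := QCAlgMod72.preservesColimitsOfShape_toSheaf X.ringCatSheaf I
  let e : Limits.colimit F ≅ Coh.toAb c.pt :=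
    (Limits.colimit.isColimit F).coconePointUniqueUpToIso (Limits.isColimitOfPreserves T hc)
  obtain ⟨k, x, hx⟩ := (TopCoh49.colim_E (X := X.carrier) (U := ⊤) isCompact_univ p F).1
    (Abelian.Ext.comp (Coh69.hhEquiv c.pt p z) (Abelian.Ext.mk₀ e.inv) (add_zero p))
  refine ⟨k, (Coh69.hhEquiv (D.obj k) p).symm x, ?_⟩
  apply (Coh69.hhEquiv c.pt p).injective
  have key : Coh69.hhEquiv c.pt p (Crv77.hmap A (c.ι.app k) p ((Coh69.hhEquiv (D.obj k) p).symm x)) =
      Abelian.Ext.comp x (Abelian.Ext.mk₀ (T.map (c.ι.app k))) (add_zero p) := by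
    obtain ⟨w, rfl⟩ := (Coh69.hhEquiv (D.obj k) p).surjective x
    rw [AddEquiv.symm_apply_apply]
    exact Coh69.hTerminalEquiv_map isTerminalTop (T.map (c.ι.app k)) p w
  rw [key]
  have h1 : Coh69.hhEquiv c.pt p z = Abelian.Ext.comp (Abelian.Ext.comp (Coh69.hhEquiv c.pt p z)
      (Abelian.Ext.mk₀ e.inv) (add_zero p)) (Abelian.Ext.mk₀ e.hom) (add_zero p) := by
    rw [Abelian.Ext.comp_assoc_of_second_deg_zero, Abelian.Ext.mk₀_comp_mk₀, e.inv_hom_id, Abelian.Ext.comp_mk₀_id]
  rw [h1, ← hx]
  refine Eq.symm ((Crv77.ext_comp_comp x _ _).trans ?_)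
  congr 2
  exact (Limits.colimit.isColimit F).comp_coconePointUniqueUpToIso_hom _ k

/-- `hmap` as an additive map in the morphism. -/
def hmapHom {A : Type u} [CommRing A] [X.Over (Spec (CommRingCat.of A))] (M N : X.Modules) (n : ℕ)
    (x : Coh.HH X M n) : (M ⟶ N) →+ Coh.HH X N n :=
  AddMonoidHom.mk' (fun φ => Crv77.hmap A φ n x) fun φ ψ => by
    change Sheaf.H.map ((Crv77.toAbF X).map (φ + ψ)) n x = _
    rw [Functor.map_add]
    exact Sheaf.H.map_add_apply _ _ x

open CoproductsFromFiniteFiltered in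
/-- `H¹` of a direct sum of copies of a module without `H¹` vanishes. -/
theorem subsingleton_hh_coprod {A : Type u} [CommRing A] [X.Over (Spec (CommRingCat.of A))] [CompactSpace X]
    [QuasiSeparatedSpace X] (M : X.Modules) (p : ℕ) (h : Subsingleton (Coh.HH X M p)) (ι : Type u) :
    Subsingleton (Coh.HH X (∐ fun _ : ι => M) p) := by
  classical
  refine subsingleton_of_forall_eq 0 fun z => ?_
  obtain ⟨S, y, rfl⟩ := exists_stage_class (A := A) _ (isColimitFiniteSubproductsCocone (fun _ : ι => M)) p z
  let F : {x // x ∈ S} → X.Modules := fun x => (Discrete.functor fun _ : ι => M).obj x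
  let pr : ∀ t, (∐ F) ⟶ F t := fun t => Sigma.desc fun t' => if h' : t' = t then eqToHom (congrArg F h') else 0
  have hid : ∑ t, pr t ≫ Sigma.ι F t = 𝟙 (∐ F) := Sigma.hom_ext _ _ fun t' => by
    rw [Preadditive.comp_sum, Category.comp_id, Finset.sum_eq_single t']
    · simp [pr]
    · intro t _ ht
      simp [pr, Ne.symm ht]
    · simp
  have hy : y = 0 := by
    have e := map_sum (hmapHom (A := A) (∐ F) (∐ F) p y) (fun t => pr t ≫ Sigma.ι F t) Finset.univ
    rw [hid] at e
    refine ((Crv77.hmap_id A _ p y).symm.trans e).trans (Finset.sum_eq_zero fun t _ => ?_)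
    show Crv77.hmap A (pr t ≫ Sigma.ι F t) p y = 0
    rw [← Crv77.hmap_comp, @Subsingleton.elim _ h (Crv77.hmap A (pr t) p y) 0, map_zero]
  rw [hy, map_zero]; rfl

/-- `H¹` of globally generated quasi-coherent modules vanishes. -/
theorem subsingleton_h1_genBySections {A : Type u} [CommRing A] (f : X ⟶ Spec (CommRingCat.of A)) [IsProper f]
    (hV : Vanish X 2) (h : Subsingleton (Coh.HH X (Coh.structureModule X) 1)) (F : X.Modules) [F.IsQuasicoherent]
    (ι : Type u) (e : (∐ fun _ : ι => Coh.structureModule X) ⟶ F) [Epi e] : Subsingleton (Coh.HH X F 1) := by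
  let _ : X.Over (Spec (CommRingCat.of A)) := ⟨f⟩
  haveI : CompactSpace X := QuasiCompact.compactSpace_of_compactSpace f
  haveI : QuasiSeparatedSpace X := quasiSeparatedSpace_of_quasiSeparated f
  haveI : (Coh.structureModule X).IsQuasicoherent := isQuasicoherent_unit
  haveI : (∐ fun _ : ι => Coh.structureModule X).IsQuasicoherent := isQuasicoherent_coproduct _ fun _ => isQuasicoherent_unit
  haveI := subsingleton_hh_coprod (A := A) (Coh.structureModule X) 1 h ι
  exact (hmap_surjective_of_epi (A := A) hV e).subsingleton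

end Groth.Agent.Proper66
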