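import Groth.Agent.Proper66.HOneBase

/-! Vanishing of `H¹(X, O_X)` for proper schemes with one-dimensional fibres having `H¹ = 0`. -/

set_option autoImplicit false
set_option linter.style.haveILetI false
set_option linter.unusedSectionVars false
set_option backward.isDefEq.respectTransparency.types false

universe u

open CategoryTheory CategoryTheory.Limits AlgebraicGeometry TopologicalSpace Opposite
open Groth.Agent.QC70

noncomputable section

namespace Groth.Agent.Proper66

variable {X Z : Scheme.{u}}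

section Local

variable {P : Type u} [CommRing P] [Z.Over (Spec (CommRingCat.of P))]
  [IsProper (Z ↘ Spec (CommRingCat.of P))] (𝔪 : Ideal P)
  (j : X ⟶ Z) [IsClosedImmersion j] {W : Scheme.{u}} (ι : W ⟶ X) [IsClosedImmersion ι]

/-- The restriction of a proper `P`-scheme's coordinates to a closed subscheme. -/
def coord (j : X ⟶ Z) (U : Z.Opens) : P →+* Γ(X, j ⁻¹ᵁ U) :=
  (j.app U).hom.comp ((Z.presheaf.map (homOfLE (le_top : U ≤ ⊤)).op).hom.comp
    (Coh.toGlobal (Z ↘ Spec (CommRingCat.of P)) : P →+* Γ(Z, ⊤)))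

theorem gmul_app (a : P) (U : Z.Opens) (b : Γ(X, j ⁻¹ᵁ U)) :
    (gmul ((Coh.push j).obj (Coh.structureModule X)) (Coh.toGlobal (Z ↘ Spec (CommRingCat.of P)) a)).app U b =
      coord j U a * b :=
  QCqs72.pushforward_smul (Coh.structureModule X) j _ _

theorem smul_app (U : Z.Opens) (r : Γ(Z, U)) (b : Γ(X, j ⁻¹ᵁ U)) :
    (r • (show Γ((Coh.push j).obj (Coh.structureModule X), U) from b)) = (show Γ((Coh.push j).obj (Coh.structureModule X), U) from j.app U r * b) :=
  QCqs72.pushforward_smul (Coh.structureModule X) j _ _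

/-- A quotient killed by a set of equations kills the ideal they generate. -/
theorem app_eq_zero_of_mem {G₁ : Z.Modules} (π : (Coh.push j).obj (Coh.structureModule X) ⟶ G₁) (s : Set P)
    (hl : ∀ a ∈ s, gmul G₁ (Coh.toGlobal (Z ↘ Spec (CommRingCat.of P)) a) = 0) {U : Z.Opens} (hU : IsAffineOpen U)
    (b : Γ(X, j ⁻¹ᵁ U)) (hb : b ∈ (Ideal.span s).map (coord j U)) : π.app U b = 0 := by
  rw [Ideal.map_span] at hb
  let π' : Γ(X, j ⁻¹ᵁ U) →+ Γ(G₁, U) := (π.app U).hom
  show π' b = 0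
  refine Submodule.span_induction (p := fun b _ => π' b = 0) ?_ (map_zero _)
    (fun a b _ _ ha hb => (map_add _ a b).trans (by rw [ha, hb, add_zero])) ?_ hb
  · rintro _ ⟨a, ha, rfl⟩
    have e1 := gmul_natural π (Coh.toGlobal (Z ↘ Spec (CommRingCat.of P)) a)
    rw [hl a ha, comp_zero] at e1
    have e2 := congrArg (fun w : _ ⟶ G₁ => w.app U (1 : Γ(X, j ⁻¹ᵁ U))) e1
    have e3 : π' (coord j U a * 1) = 0 := (congrArg π' (gmul_app j a U 1).symm).trans e2
    rwa [mul_one] at e3
  · intro c b _ hb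
    obtain ⟨r, rfl⟩ := j.app_surjective U hU c
    have e := Scheme.Modules.Hom.app_smul π r (show Γ((Coh.push j).obj (Coh.structureModule X), U) from b)
    rw [smul_app] at e
    refine e.trans ?_
    show r • π' b = 0
    rw [hb, smul_zero]

/-- Finitely many equations suffice for a module of finite type. -/
theorem exists_finset_mem {G' : Z.Modules} [G'.IsQuasicoherent] [G'.IsFiniteType]
    (v : G' ⟶ (Coh.push j).obj (Coh.structureModule X)) {U : Z.Opens} (hU : IsAffineOpen U)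
    (hmem : ∀ t : Γ(G', U), (show Γ(X, j ⁻¹ᵁ U) from v.app U t) ∈ 𝔪.map (coord j U)) :
    ∃ s : Finset P, ↑s ⊆ (𝔪 : Set P) ∧
      ∀ t : Γ(G', U), (show Γ(X, j ⁻¹ᵁ U) from v.app U t) ∈ (Ideal.span (s : Set P)).map (coord j U) := by
  classical
  haveI := finite_sections_of_isFiniteType G' hU
  obtain ⟨gen, hgen⟩ := Module.Finite.fg_top (R := Γ(Z, U)) (M := Γ(G', U))
  have hfin : ∀ b ∈ 𝔪.map (coord j U), ∃ s : Finset P, ↑s ⊆ (𝔪 : Set P) ∧
      b ∈ (Ideal.span (s : Set P)).map (coord j U) := by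
    intro b hb
    rw [Ideal.map] at hb
    obtain ⟨s, hs, hbs⟩ := Submodule.mem_span_finite_of_mem_span hb
    obtain ⟨s', hs', rfl⟩ := Finset.subset_set_image_iff.1 hs
    refine ⟨s', hs', ?_⟩
    rw [Ideal.map_span]
    rwa [Finset.coe_image] at hbs
  choose s hs hsb using fun t : gen => hfin _ (hmem t.1)
  refine ⟨Finset.univ.biUnion s, fun a ha => ?_, fun t => ?_⟩
  · simp only [Finset.coe_biUnion, Set.mem_iUnion] at ha
    obtain ⟨t, -, ha⟩ := ha
    exact hs t ha
  · let I := (Ideal.span (↑(Finset.univ.biUnion s) : Set P)).map (coord j U)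
    let v' : Γ(G', U) →+ Γ(X, j ⁻¹ᵁ U) := (v.app U).hom
    show v' t ∈ I
    refine Submodule.span_induction (p := fun t _ => v' t ∈ I) ?_ ?_ ?_ ?_
      (hgen ▸ trivial : t ∈ Submodule.span Γ(Z, U) (gen : Set Γ(G', U)))
    · intro t ht
      have hle : Ideal.span (↑(s ⟨t, ht⟩) : Set P) ≤ Ideal.span (↑(Finset.univ.biUnion s) : Set P) :=
        Ideal.span_mono (Finset.coe_subset.2 (Finset.subset_biUnion_of_mem s (Finset.mem_univ _)))
      exact (Ideal.map_mono (f := coord j U) hle) (hsb ⟨t, ht⟩)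
    · rw [map_zero]; exact zero_mem _
    · intro a b _ _ ha hb
      rw [map_add]; exact add_mem ha hb
    · intro r a _ ha
      have e : v' (r • a) = j.app U r * v' a :=
        (Scheme.Modules.Hom.app_smul v r a).trans (smul_app j U r _)
      rw [e]
      exact Ideal.mul_mem_left _ _ ha

/-- Classes dying on the special subscheme are multiples of its equations. -/
theorem mem_smul (hV : Vanish Z 2)
    (hker : ∀ U : Z.Opens, IsAffineOpen U → ∀ b : Γ(X, j ⁻¹ᵁ U), ι.app (j ⁻¹ᵁ U) b = 0 →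
      b ∈ 𝔪.map ((j.app U).hom.comp ((Z.presheaf.map (homOfLE (le_top : U ≤ ⊤)).op).hom.comp
        (Coh.toGlobal (Z ↘ Spec (CommRingCat.of P)) : P →+* Γ(Z, ⊤)))))
    (x : Coh.HH Z ((Coh.push j).obj (Coh.structureModule X)) 1)
    (hk : Subsingleton (Coh.HH W (Coh.structureModule W) 1)) :
    x ∈ 𝔪 • (⊤ : Submodule P (Coh.HH Z ((Coh.push j).obj (Coh.structureModule X)) 1)) := by
  classical
  haveI : CompactSpace Z := QuasiCompact.compactSpace_of_compactSpace (Z ↘ Spec (CommRingCat.of P))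
  haveI : QuasiSeparatedSpace Z := quasiSeparatedSpace_of_quasiSeparated (Z ↘ Spec (CommRingCat.of P))
  haveI : (Coh.structureModule X).IsQuasicoherent := isQuasicoherent_unit
  haveI : (Coh.structureModule W).IsQuasicoherent := isQuasicoherent_unit
  let G := (Coh.push j).obj (Coh.structureModule X)
  haveI : G.IsQuasicoherent := QCqs72.isQuasicoherent_pushforward _ j
  let N := (Coh.push j).obj ((Coh.push ι).obj (Coh.structureModule W))
  haveI : ((Coh.push ι).obj (Coh.structureModule W)).IsQuasicoherent := QCqs72.isQuasicoherent_pushforward _ ι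
  haveI : N.IsQuasicoherent := QCqs72.isQuasicoherent_pushforward _ j
  let ψ : G ⟶ N := (Coh.push j).map (ClSub.unitToPush ι)
  haveI : Epi ψ := epi_of_locally_surjective _ fun U s p hp => by
    obtain ⟨V, hV', hpV, hle⟩ := exists_isAffineOpen_mem_and_subset (x := p) (U := U) hp
    obtain ⟨t, ht⟩ := ι.app_surjective (j ⁻¹ᵁ V) (hV'.preimage j) (res N (hle : V ≤ U) s)
    exact ⟨V, hle, t, hpV, ht⟩
  haveI := isQuasicoherent_kernel ψ
  have hS : (ShortComplex.mk (kernel.ι ψ) ψ (kernel.condition ψ)).ShortExact :=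
    { exact := ShortComplex.exact_of_f_is_kernel _ (kernelIsKernel ψ) }
  have hN : Subsingleton (Coh.HH Z N 1) := by
    obtain ⟨e₁⟩ := Coh69.nonempty_hh_push ι (Coh.structureModule W) 1
    obtain ⟨e₂⟩ := Coh69.nonempty_hh_push j ((Coh.push ι).obj (Coh.structureModule W)) 1
    exact (e₁.trans e₂).symm.toEquiv.subsingleton
  obtain ⟨z, rfl⟩ := (Crv77.exact_f_g P hS 1 x).1 (hN.elim _ _)
  obtain ⟨G', u, hG'q, hG'f, y, rfl⟩ := exists_finiteType_class (A := P) (kernel ψ) 1 z
  haveI := hG'q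
  haveI := hG'f
  rw [Crv77.hmap_comp]
  show Crv77.hmap P (u ≫ kernel.ι ψ) 1 y ∈ _
  set v := u ≫ kernel.ι ψ with hv
  have hvψ : v ≫ ψ = 0 := by rw [hv, Category.assoc, kernel.condition, comp_zero]
  obtain ⟨T, hT⟩ := CompactSpace.isCompact_univ.elim_finite_subcover (fun U : Z.affineOpens => (U.1 : Set Z))
    (fun U => U.1.2) (fun x _ => by
      obtain ⟨U, hU, hxU, -⟩ := exists_isAffineOpen_mem_and_subset (x := x) (U := ⊤) trivial
      exact Set.mem_iUnion.2 ⟨⟨U, hU⟩, hxU⟩)
  have hloc : ∀ U : Z.affineOpens, ∃ s : Finset P, ↑s ⊆ (𝔪 : Set P) ∧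
      ∀ t : Γ(G', U.1), v.app U.1 t ∈ (Ideal.span (s : Set P)).map (coord j U.1) := fun U =>
    exists_finset_mem 𝔪 j v U.2 fun t => hker U.1 U.2 _ (congrArg (fun w : G' ⟶ N => w.app U.1 t) hvψ)
  choose s hs hsv using hloc
  obtain ⟨G₁, π, hπ, hG₁, hl, hker'⟩ := exists_quot_list (A := P) hV (T.biUnion s).toList G ‹_›
  haveI := hG₁
  have hzero : v ≫ π = 0 := by
    refine hom_eq_zero _ (fun U : T => U.1.1) (fun U => U.1.2) (top_le_iff.1 fun x _ => ?_) fun U t => ?_
    · obtain ⟨U, hU, hx⟩ := Set.mem_iUnion₂.1 (hT (Set.mem_univ x))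
      exact Opens.mem_iSup.2 ⟨⟨U, hU⟩, hx⟩
    exact app_eq_zero_of_mem j π _ (fun a ha => hl a (Finset.mem_toList.2 (Finset.mem_biUnion.2 ⟨_, U.2, ha⟩)))
      U.1.2 _ (hsv U.1 t)
  have hx0 : Crv77.hmap P π 1 (Crv77.hmap P v 1 y) = 0 := by
    rw [Crv77.hmap_comp, hzero]
    exact Serre71.hmap_zero' (A := P) 1 y
  refine (Submodule.smul_mono_left ?_) (hker' _ hx0)
  rw [Ideal.span_le]
  intro a ha
  obtain ⟨U, -, ha⟩ := Finset.mem_biUnion.1 (Finset.mem_toList.1 ha)
  exact hs U ha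

/-- `H¹` of the structure sheaf vanishes over a local ring, given finiteness upstairs. -/
theorem subsingleton_of_finite [IsLocalRing P] (hV : Vanish Z 2) [Module.Finite P (Coh.HH Z (Coh.structureModule Z) 1)]
    (hker : ∀ U : Z.Opens, IsAffineOpen U → ∀ b : Γ(X, j ⁻¹ᵁ U), ι.app (j ⁻¹ᵁ U) b = 0 →
      b ∈ (IsLocalRing.maximalIdeal P).map ((j.app U).hom.comp ((Z.presheaf.map (homOfLE (le_top : U ≤ ⊤)).op).hom.comp
        (Coh.toGlobal (Z ↘ Spec (CommRingCat.of P)) : P →+* Γ(Z, ⊤)))))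
    (hk : Subsingleton (Coh.HH W (Coh.structureModule W) 1)) :
    Subsingleton (Coh.HH X (Coh.structureModule X) 1) := by
  haveI : (Coh.structureModule X).IsQuasicoherent := isQuasicoherent_unit
  haveI : (Coh.structureModule Z).IsQuasicoherent := isQuasicoherent_unit
  haveI : ((Coh.push j).obj (Coh.structureModule X)).IsQuasicoherent := QCqs72.isQuasicoherent_pushforward _ j
  let θ := ClSub.unitToPush j
  haveI : Epi θ := epi_of_locally_surjective _ fun U s p hp => by
    obtain ⟨V, hV', hpV, hle⟩ := exists_isAffineOpen_mem_and_subset (x := p) (U := U) hp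
    obtain ⟨t, ht⟩ := j.app_surjective V hV' (res _ (hle : V ≤ U) s)
    exact ⟨V, hle, t, hpV, ht⟩
  haveI : Module.Finite P (Coh.HH Z ((Coh.push j).obj (Coh.structureModule X)) 1) :=
    Module.Finite.of_surjective _ (hmap_surjective_of_epi (A := P) hV θ)
  have h0 := Submodule.eq_bot_of_le_smul_of_le_jacobson_bot (IsLocalRing.maximalIdeal P) ⊤
    Module.Finite.fg_top (fun x _ => mem_smul (IsLocalRing.maximalIdeal P) j ι hV hker x hk)
    (IsLocalRing.maximalIdeal_le_jacobson _)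
  haveI : Subsingleton (Coh.HH Z ((Coh.push j).obj (Coh.structureModule X)) 1) :=
    (Submodule.subsingleton_iff P).1 (subsingleton_of_bot_eq_top h0.symm)
  obtain ⟨e⟩ := Coh69.nonempty_hh_push j (Coh.structureModule X) 1
  exact e.toEquiv.subsingleton

end Local

end Groth.Agent.Proper66
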