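import Groth.Agent.Proper66.HOneBC

/-! `R¹f_*O` vanishes near a fibre with vanishing `H¹`. -/

set_option autoImplicit false
set_option linter.style.haveILetI false
set_option linter.unusedSectionVars false
set_option backward.isDefEq.respectTransparency.types false

universe u

open CategoryTheory CategoryTheory.Limits AlgebraicGeometry TopologicalSpace Opposite
open Groth.Agent.QC70

noncomputable section

namespace Groth.Agent.Proper66

variable {X Y : Scheme.{u}} (f : X ⟶ Y)

/-- The restriction over an affine open, over the spectrum of its ring. -/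
theorem isPullback_over_affine {W : Y.Opens} (hW : IsAffineOpen W) :
    IsPullback (f ⁻¹ᵁ W).ι ((f ∣_ W) ≫ hW.isoSpec.hom) f hW.fromSpec := by
  have h1 : IsPullback (𝟙 (f ⁻¹ᵁ W : Scheme.{u})) ((f ∣_ W) ≫ hW.isoSpec.hom) (f ∣_ W) hW.isoSpec.inv :=
    IsPullback.of_horiz_isIso ⟨by simp⟩
  have := h1.paste_horiz (isPullback_morphismRestrict f W).flip
  rwa [Category.id_comp, hW.isoSpec_inv_ι] at this

theorem subsingleton_restrict_unit {Z : Scheme.{u}} (V : Z.Opens)
    (h : Subsingleton (Coh.HH (V : Scheme.{u}) (Coh.structureModule (V : Scheme.{u})) 1)) :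
    Subsingleton (Coh.HHon Z (Coh.structureModule Z) V 1) := by
  let _ : (V : Scheme.{u}).Over (Spec (CommRingCat.of (ULift.{u} ℤ))) := ⟨specULiftZIsTerminal.from _⟩
  let e := (Scheme.Modules.restrictFunctorIsoPullback V.ι).app (Coh.structureModule Z) ≪≫ PicLoc.pullbackStructureIso V.ι
  refine ⟨fun a b => ?_⟩
  rw [← Crv77.hmap_id (ULift.{u} ℤ) _ 1 a, ← Crv77.hmap_id (ULift.{u} ℤ) _ 1 b]
  erw [← e.hom_inv_id]
  rw [← Crv77.hmap_comp, ← Crv77.hmap_comp]
  exact congrArg _ (h.elim _ _)

variable [IsProper f]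

theorem isProper_over_affine {W : Y.Opens} (hW : IsAffineOpen W) : IsProper ((f ∣_ W) ≫ hW.isoSpec.hom) :=
  MorphismProperty.of_isPullback (isPullback_over_affine f hW) inferInstance

theorem dims_le_over_affine {W : Y.Opens} (hW : IsAffineOpen W) {d : ℕ}
    (hd : ∀ y ∈ W, topologicalKrullDim ↥(f.fiber y) ≤ d) (t : Spec (CommRingCat.of Γ(Y, W))) :
    topologicalKrullDim ↥(((f ∣_ W) ≫ hW.isoSpec.hom).fiber t) ≤ d := by
  haveI := isProper_over_affine f hW
  refine (E4O.dim_fiber_le_iff _ t _).2 fun x _ => ?_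
  refine le_trans (by exact_mod_cast E4O.fdeg_le_of_isPullback (isPullback_over_affine f hW) x)
    ((E4O.dim_fiber_le_iff f _ _).1 (hd _ ?_) ((f ⁻¹ᵁ W).ι x) rfl)
  exact x.2

/-- One fibre controls `H¹` over the local ring. -/
theorem subsingleton_fibre_field (y : Y) (h : Subsingleton (Coh.HH (f.fiber y) (Coh.structureModule (f.fiber y)) 1))
    (K : Type u) [Field K] (g : Spec (CommRingCat.of K) ⟶ Y) (hg : g (IsLocalRing.closedPoint K) = y) :
    Subsingleton (Coh.HH (pullback f g) (Coh.structureModule (pullback f g)) 1) := by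
  subst hg
  let y := g (IsLocalRing.closedPoint K)
  let φ : Y.residueField y ⟶ CommRingCat.of K := Y.descResidueField (Scheme.stalkClosedPointTo g)
  have hg : Spec.map φ ≫ Y.fromSpecResidueField y = g :=
    Scheme.descResidueField_stalkClosedPointTo_fromSpecResidueField K Y g
  haveI : IsProper (f.fiberToSpecResidueField y) := MorphismProperty.pullback_snd _ _ inferInstance
  let ψ := f.fiberToSpecResidueField y
  algebraize [φ.hom]
  let _ : (f.fiber y).Over (Spec (CommRingCat.of (Y.residueField y))) := ⟨ψ⟩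
  haveI : CompactSpace (f.fiber y) := QuasiCompact.compactSpace_of_compactSpace ψ
  haveI : QuasiSeparatedSpace (f.fiber y) := quasiSeparatedSpace_of_quasiSeparated ψ
  let X' := pullback ψ (Spec.map φ)
  let _ : X'.Over (Spec (CommRingCat.of K)) := ⟨pullback.snd _ _⟩
  obtain ⟨e⟩ := nonempty_flat (A := Y.residueField y) (B := K) (X := f.fiber y) (X' := X') (pullback.fst _ _)
    (IsPullback.of_hasPullback _ _) 1
  haveI := h
  exact subsingleton_of_iso ((pullbackLeftPullbackSndIso f (Y.fromSpecResidueField y) (Spec.map φ)) ≪≫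
    pullback.congrHom rfl hg) 1 e.symm.toEquiv.subsingleton

/-- A neighbourhood over which `H¹` vanishes. -/
theorem exists_nhd_h1 (y : Y) (hd : topologicalKrullDim ↥(f.fiber y) ≤ (1 : ℕ))
    (h : Subsingleton (Coh.HH (f.fiber y) (Coh.structureModule (f.fiber y)) 1)) :
    ∃ (W : Y.Opens) (hW : IsAffineOpen W) (a : Γ(Y, W)), y ∈ Y.basicOpen a ∧
      (∀ z ∈ W, topologicalKrullDim ↥(f.fiber z) ≤ (1 : ℕ)) ∧
      Subsingleton (Coh.HH (pullback ((f ∣_ W) ≫ hW.isoSpec.hom)
          (Spec.map (CommRingCat.ofHom (algebraMap Γ(Y, W) (Localization.Away a)))))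
        (Coh.structureModule (pullback ((f ∣_ W) ≫ hW.isoSpec.hom)
          (Spec.map (CommRingCat.ofHom (algebraMap Γ(Y, W) (Localization.Away a)))))) 1) := by
  obtain ⟨W, hW, hyW, -, hWd⟩ := exists_affine_nhd f y hd ⊤ trivial
  let q := (f ∣_ W) ≫ hW.isoSpec.hom
  haveI : IsProper q := isProper_over_affine f hW
  have hq := isPullback_over_affine f hW
  have hdq : ∀ t, topologicalKrullDim ↥(q.fiber t) ≤ (1 : ℕ) := dims_le_over_affine f hW hWd
  let 𝔭 := hW.primeIdealOf ⟨y, hyW⟩
  let A := Γ(Y, W)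
  let L := Localization.AtPrime 𝔭.asIdeal
  let XW : Scheme.{u} := (f ⁻¹ᵁ W : Scheme.{u})
  let _ : XW.Over (Spec (CommRingCat.of A)) := ⟨q⟩
  haveI : CompactSpace XW := QuasiCompact.compactSpace_of_compactSpace q
  haveI : QuasiSeparatedSpace XW := quasiSeparatedSpace_of_quasiSeparated q
  let sL := Spec.map (CommRingCat.ofHom (algebraMap A L))
  haveI : IsProper (pullback.snd q sL) := MorphismProperty.pullback_snd _ _ inferInstance
  let _ : (pullback q sL).Over (Spec (CommRingCat.of L)) := ⟨pullback.snd q sL⟩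
  let K := IsLocalRing.ResidueField L
  let res := Spec.map (CommRingCat.ofHom (IsLocalRing.residue L))
  have hpt : hW.fromSpec (sL (res (IsLocalRing.closedPoint K))) = y := by
    have h1 : sL (res (IsLocalRing.closedPoint K)) = 𝔭 := by
      refine PrimeSpectrum.ext ?_
      show ((IsLocalRing.maximalIdeal K).comap (IsLocalRing.residue L)).comap (algebraMap A L) = 𝔭.asIdeal
      rw [IsLocalRing.maximalIdeal_eq_bot, ← RingHom.ker_eq_comap_bot, IsLocalRing.ker_residue]
      exact IsLocalization.AtPrime.under_maximalIdeal L 𝔭.asIdeal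
    exact (congrArg hW.fromSpec h1).trans (hW.fromSpec_primeIdealOf ⟨y, hyW⟩)
  have hk : Subsingleton (Coh.HH (pullback (pullback.snd q sL) res) (Coh.structureModule (pullback (pullback.snd q sL) res)) 1) := by
    have sq := ((IsPullback.of_hasPullback (pullback.snd q sL) res).paste_horiz (IsPullback.of_hasPullback q sL)).paste_horiz hq
    exact subsingleton_of_iso sq.isoPullback.symm 1 (subsingleton_fibre_field f y h K _ hpt)
  haveI := subsingleton_h1_local (pullback.snd q sL) (dims_le_of_isPullback (IsPullback.of_hasPullback q sL) hdq) hk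
  obtain ⟨e⟩ := nonempty_flat (A := A) (B := L) (X := XW) (X' := pullback q sL) (pullback.fst _ _)
    (IsPullback.of_hasPullback q sL) 1
  let M := Coh.HH XW (Coh.structureModule XW) 1
  haveI : Module.Finite A M := finite_h1 q hdq rfl
  haveI : Subsingleton (TensorProduct A L M) := e.toEquiv.subsingleton
  haveI : IsLocalizedModule 𝔭.asIdeal.primeCompl (TensorProduct.mk A L M 1) :=
    (isLocalizedModule_iff_isBaseChange 𝔭.asIdeal.primeCompl L _).2 (TensorProduct.isBaseChange A M L)
  have hann := (IsLocalizedModule.subsingleton_iff 𝔭.asIdeal.primeCompl (TensorProduct.mk A L M 1)).1 inferInstance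
  choose r hr hr0 using hann
  classical
  obtain ⟨T, hT⟩ := Module.Finite.fg_top (R := A) (M := M)
  let a : A := ∏ t ∈ T, r t
  have ha : a ∈ 𝔭.asIdeal.primeCompl := Submonoid.prod_mem _ fun t _ => hr t
  have ham : ∀ m : M, a • m = 0 := fun m => by
    have hm : m ∈ Submodule.span A (T : Set M) := hT ▸ trivial
    induction hm using Submodule.span_induction with
    | mem t ht =>
      obtain ⟨c, hc⟩ := Finset.dvd_prod_of_mem r ht
      show (∏ t ∈ T, r t) • t = 0
      rw [hc, mul_comm, mul_smul, hr0, smul_zero]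
    | zero => exact smul_zero _
    | add b c _ _ hb hc => rw [smul_add, hb, hc, add_zero]
    | smul c m _ hm => rw [smul_comm, hm, smul_zero]
  refine ⟨W, hW, a, ?_, hWd, ?_⟩
  · have hp := hW.fromSpec_primeIdealOf ⟨y, hyW⟩
    have : 𝔭 ∈ hW.fromSpec ⁻¹ᵁ Y.basicOpen a := by
      rw [hW.fromSpec_preimage_basicOpen]
      exact ha
    have h2 : hW.fromSpec 𝔭 ∈ Y.basicOpen a := this
    rw [hp] at h2
    exact h2
  · let sa := Spec.map (CommRingCat.ofHom (algebraMap A (Localization.Away a)))
    let _ : (pullback q sa).Over (Spec (CommRingCat.of (Localization.Away a))) := ⟨pullback.snd q sa⟩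
    obtain ⟨e'⟩ := nonempty_flat (A := A) (B := Localization.Away a) (X := XW) (X' := pullback q sa) (pullback.fst _ _)
      (IsPullback.of_hasPullback q sa) 1
    haveI : IsLocalizedModule (Submonoid.powers a) (TensorProduct.mk A (Localization.Away a) M 1) :=
      (isLocalizedModule_iff_isBaseChange (Submonoid.powers a) (Localization.Away a) _).2
        (TensorProduct.isBaseChange A M (Localization.Away a))
    haveI : Subsingleton (TensorProduct A (Localization.Away a) M) :=
      (IsLocalizedModule.subsingleton_iff (Submonoid.powers a) (TensorProduct.mk A (Localization.Away a) M 1)).2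
        fun m => ⟨a, Submonoid.mem_powers a, ham m⟩
    exact e'.symm.toEquiv.subsingleton

/-- `H¹` vanishes over affine schemes mapping to the neighbourhood. -/
theorem exists_nhd_h1_bc (y : Y) (hd : topologicalKrullDim ↥(f.fiber y) ≤ (1 : ℕ))
    (h : Subsingleton (Coh.HH (f.fiber y) (Coh.structureModule (f.fiber y)) 1)) :
    ∃ V : Y.Opens, y ∈ V ∧ ∀ (Y' : Scheme.{u}) (g : Y' ⟶ Y), Set.range g ⊆ V → ∀ (U : Y'.Opens), IsAffineOpen U →
      Subsingleton (Coh.HHon (pullback f g) (Coh.structureModule (pullback f g)) (pullback.snd f g ⁻¹ᵁ U) 1) := by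
  obtain ⟨W, hW, a, hya, hWd, h1⟩ := exists_nhd_h1 f y hd h
  refine ⟨Y.basicOpen a, hya, fun Y' g hg U hU => ?_⟩
  let q := (f ∣_ W) ≫ hW.isoSpec.hom
  haveI : IsProper q := isProper_over_affine f hW
  let A := Γ(Y, W)
  let Aa := Localization.Away a
  let sa := Spec.map (CommRingCat.ofHom (algebraMap A Aa))
  haveI : IsProper (pullback.snd q sa) := MorphismProperty.pullback_snd _ _ inferInstance
  have hle : U ≤ g ⁻¹ᵁ W := fun x _ => Y.basicOpen_le a (hg ⟨x, rfl⟩)
  let ψ : Γ(Y, W) ⟶ Γ(Y', U) := g.appLE W U hle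
  have hψ : Spec.map ψ ≫ hW.fromSpec = hU.fromSpec ≫ g := IsAffineOpen.SpecMap_appLE_fromSpec g hW hU hle
  have hunit : IsUnit (ψ.hom a) := by
    rw [← Ideal.span_singleton_eq_top, ← hU.iSup_basicOpen_eq_self_iff, iSup_subtype]
    simp only [Set.mem_singleton_iff, iSup_iSup_eq_left]
    rw [Scheme.basicOpen_appLE, inf_eq_left]
    exact fun x _ => hg ⟨x, rfl⟩
  let φ : Aa →+* Γ(Y', U) := IsLocalization.Away.lift a hunit
  have hφ : φ.comp (algebraMap A Aa) = ψ.hom := IsLocalization.Away.lift_comp a hunit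
  let p := pullback.snd f g
  let XU : Scheme.{u} := (p ⁻¹ᵁ U : Scheme.{u})
  let pU := (p ∣_ U) ≫ hU.isoSpec.hom
  have big := (isPullback_over_affine p hU).paste_horiz (IsPullback.of_hasPullback f g)
  rw [← hψ] at big
  let u := (isPullback_over_affine f hW).lift ((p ⁻¹ᵁ U).ι ≫ pullback.fst f g) (pU ≫ Spec.map ψ)
    (by rw [Category.assoc]; exact big.w)
  have sq1 : IsPullback u pU q (Spec.map ψ) := by
    refine IsPullback.of_right ?_ (IsPullback.lift_snd _ _ _ _) (isPullback_over_affine f hW)
    rw [IsPullback.lift_fst]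
    exact big
  have hfac : Spec.map (CommRingCat.ofHom φ) ≫ sa = Spec.map ψ := by
    rw [← Spec.map_comp]
    congr 1
    exact CommRingCat.hom_ext hφ
  let u' : XU ⟶ pullback q sa := pullback.lift u (pU ≫ Spec.map (CommRingCat.ofHom φ))
    (by rw [Category.assoc, hfac]; exact sq1.w)
  have sq2 : IsPullback u' pU (pullback.snd q sa) (Spec.map (CommRingCat.ofHom φ)) := by
    refine IsPullback.of_right ?_ (pullback.lift_snd _ _ _) (IsPullback.of_hasPullback q sa)
    rw [hfac, pullback.lift_fst]
    exact sq1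
  have key : Subsingleton (Coh.HH XU (Coh.structureModule XU) 1) :=
    subsingleton_h1_bc (pullback.snd q sa)
      (dims_le_of_isPullback (IsPullback.of_hasPullback q sa) (dims_le_over_affine f hW hWd)) h1 φ pU u' sq2
  exact subsingleton_restrict_unit _ key

end Groth.Agent.Proper66
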