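import Groth.Agent.Proper66.HOneGen
import Groth.Agent.Crv77.Sections
import Groth.Agent.CartMod7.Affine
import Groth.Agent.EGAProj74.TildeRows

/-! Surjectivity of `O → f_*O` is stable under base change for families of curves with vanishing `H¹`. -/

set_option autoImplicit false
set_option linter.style.haveILetI false
set_option linter.unusedSectionVars false
set_option backward.isDefEq.respectTransparency.types false

universe u

open CategoryTheory CategoryTheory.Limits AlgebraicGeometry TopologicalSpace Opposite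
open Groth.Agent.QC70

noncomputable section

namespace Groth.Agent.Proper66

variable {X Y : Scheme.{u}}

/-- Functions dying on the base change to a quotient ring lie in the extended ideal. -/
theorem ker_quot {A B : Type u} [CommRing A] [CommRing B] (ψ : A →+* B) (hψ : Function.Surjective ψ)
    (f : X ⟶ Spec (CommRingCat.of A)) {X' : Scheme.{u}} {i : X' ⟶ X} {f' : X' ⟶ Spec (CommRingCat.of B)}
    (sq : IsPullback i f' f (Spec.map (CommRingCat.ofHom ψ))) {V : X.Opens}
    (hV : IsAffineOpen V) (b : Γ(X, V)) (hb : i.app V b = 0) :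
    b ∈ (RingHom.ker ψ).map
      ((X.presheaf.map (homOfLE (le_top : V ≤ ⊤)).op).hom.comp (Coh.toGlobal f : A →+* Γ(X, ⊤))) := by
  let ρ : A →+* Γ(X, V) := (X.presheaf.map (homOfLE (le_top : V ≤ ⊤)).op).hom.comp (Coh.toGlobal f : A →+* Γ(X, ⊤))
  let I := (RingHom.ker ψ).map ρ
  let q : Γ(X, V) ⟶ CommRingCat.of (Γ(X, V) ⧸ I) := CommRingCat.ofHom (Ideal.Quotient.mk I)
  let χ : CommRingCat.of B ⟶ CommRingCat.of (Γ(X, V) ⧸ I) :=
    CommRingCat.ofHom (ψ.liftOfSurjective hψ ⟨(Ideal.Quotient.mk I).comp ρ, fun a ha =>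
      Ideal.Quotient.eq_zero_iff_mem.2 (Ideal.mem_map_of_mem _ ha)⟩)
  have hρ : Spec.map (CommRingCat.ofHom ρ) = hV.fromSpec ≫ f := by
    have h1 := IsAffineOpen.SpecMap_appLE_fromSpec f (isAffineOpen_top _) hV (le_top : V ≤ f ⁻¹ᵁ ⊤)
    rw [IsAffineOpen.fromSpec_top] at h1
    rw [← h1]
    have h2 : CommRingCat.ofHom ρ = (Scheme.ΓSpecIso (CommRingCat.of A)).inv ≫ f.appLE ⊤ V le_top := rfl
    rw [h2, Spec.map_comp, Scheme.isoSpec_Spec_inv]
  have hw : (Spec.map q ≫ hV.fromSpec) ≫ f = Spec.map χ ≫ Spec.map (CommRingCat.ofHom ψ) := by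
    rw [Category.assoc, ← hρ, ← Spec.map_comp, ← Spec.map_comp]
    congr 1
    refine CommRingCat.hom_ext (RingHom.ext fun a => ?_)
    simp only [q, χ, CommRingCat.hom_comp, CommRingCat.hom_ofHom, RingHom.comp_apply, RingHom.liftOfSurjective_comp_apply]
  let l := sq.lift (Spec.map q ≫ hV.fromSpec) (Spec.map χ) hw
  have hl : l ≫ i = Spec.map q ≫ hV.fromSpec := sq.lift_fst _ _ _
  have h3 : q b = 0 := by
    have e1 : (l ≫ i).app V b = 0 := by
      exact (congrArg (l.app (i ⁻¹ᵁ V)).hom hb).trans (map_zero _)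
    have key : ∀ (k : Spec (CommRingCat.of (Γ(X, V) ⧸ I)) ⟶ X), k = Spec.map q ≫ hV.fromSpec → k.app V b = 0 →
        q b = 0 := by
      rintro k rfl hk
      replace hk : (Spec.map q).app _ (hV.fromSpec.app V b) = 0 := hk
      rw [hV.fromSpec_app_self] at hk
      apply (ConcreteCategory.bijective_of_isIso (Scheme.ΓSpecIso (CommRingCat.of (Γ(X, V) ⧸ I))).inv).1
      rw [map_zero]
      have hn := DFunLike.congr_fun (congrArg CommRingCat.Hom.hom (Scheme.ΓSpecIso_inv_naturality q)) b
      refine hn.trans ?_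
      refine (ConcreteCategory.bijective_of_isIso
        ((Spec (CommRingCat.of (Γ(X, V) ⧸ I))).presheaf.map
          (eqToHom (show Spec.map q ⁻¹ᵁ hV.fromSpec ⁻¹ᵁ V = ⊤ by rw [hV.fromSpec_preimage_self]; rfl)).op)).1 ?_
      rw [map_zero]
      refine Eq.trans ?_ hk
      rfl
    exact key _ hl e1
  exact Ideal.Quotient.eq_zero_iff_mem.1 h3

theorem app_top_surjective_of_subsingleton (A : Type u) [CommRing A] [X.Over (Spec (CommRingCat.of A))]
    (S : ShortComplex X.Modules) (hS : S.ShortExact) (h : Subsingleton (Coh.HH X S.X₁ 1)) :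
    Function.Surjective (S.g.app ⊤) := by
  intro y
  obtain ⟨z, rfl⟩ := (Crv77.sec S.X₃).surjective y
  obtain ⟨x, rfl⟩ := (Crv77.exact_g_δ A hS 0 z).1 (Subsingleton.elim (α := Coh.HH X S.X₁ 1) _ _)
  exact ⟨Crv77.sec S.X₂ x, (Crv77.sec_hmap A S.g x).symm⟩

/-- Flat base change keeps a surjection onto global functions. -/
theorem surjective_appTop_flat {A P : Type u} [CommRing A] [CommRing P] [Algebra A P] [Module.Flat A P]
    (f : X ⟶ Spec (CommRingCat.of A)) [QuasiCompact f] [QuasiSeparated f] (hf : Function.Surjective f.appTop)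
    {Z : Scheme.{u}} (z : Z ⟶ Spec (CommRingCat.of P)) (g : Z ⟶ X)
    (sq : IsPullback g z f (Spec.map (CommRingCat.ofHom (algebraMap A P)))) : Function.Surjective z.appTop := by
  let sP := Spec.map (CommRingCat.ofHom (algebraMap A P))
  haveI : Flat sP := (HasRingHomProperty.Spec_iff (P := @Flat)).2 (RingHom.flat_algebraMap_iff.2 inferInstance)
  haveI : CompactSpace X := QuasiCompact.compactSpace_of_compactSpace f
  haveI : QuasiSeparatedSpace X := quasiSeparatedSpace_of_quasiSeparated f
  haveI hiso := isIso_pushoutSection_of_isQuasiSeparated_of_flat_right sq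
    (US := ⊤) (UT := ⊤) (UX := ⊤) (UY := ⊤) le_top le_top (by simp) (isAffineOpen_top _) (isAffineOpen_top _)
    isCompact_univ isQuasiSeparated_univ
  let iX' := f.appLE ⊤ ⊤ le_top
  let sP' := sP.appLE ⊤ ⊤ le_top
  have hs : Function.Surjective iX' := by
    have e : iX' = f.appTop := by simp [iX', Scheme.Hom.appLE]
    rw [e]; exact hf
  have h1 := RingHom.surjective_isStableUnderBaseChange.pushout_inl RingHom.surjective_respectsIso sP' iX' hs
  have h2 : Function.Surjective (pushout.inr iX' sP') := by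
    rw [← inl_comp_pushoutSymmetry_hom]
    exact (ConcreteCategory.bijective_of_isIso (pushoutSymmetry sP' iX').hom).2.comp h1
  have h3 := (ConcreteCategory.bijective_of_isIso (pushoutSection sq (US := ⊤) (UT := ⊤) (UX := ⊤) (UY := ⊤)
    le_top le_top _)).2.comp h2
  rw [← ConcreteCategory.coe_comp, pushout.inr_desc] at h3
  have e : z.appLE ⊤ ⊤ le_top = z.appTop := by simp [Scheme.Hom.appLE]
  rwa [e] at h3

/-- Surjectivity onto global functions survives a closed base change. -/
theorem surjective_appTop_closed {P B : Type u} [CommRing P] [CommRing B] (q : P →+* B) (hq : Function.Surjective q)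
    {Z : Scheme.{u}} (z : Z ⟶ Spec (CommRingCat.of P)) [IsProper z] (hV : Vanish Z 2)
    (h : Subsingleton (Coh.HH Z (Coh.structureModule Z) 1)) (hz : Function.Surjective z.appTop)
    {X' : Scheme.{u}} (j : X' ⟶ Z) [IsClosedImmersion j] (f' : X' ⟶ Spec (CommRingCat.of B))
    (sq : IsPullback j f' z (Spec.map (CommRingCat.ofHom q))) : Function.Surjective f'.appTop := by
  classical
  let _ : Z.Over (Spec (CommRingCat.of P)) := ⟨z⟩
  haveI : CompactSpace Z := QuasiCompact.compactSpace_of_compactSpace z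
  haveI : QuasiSeparatedSpace Z := quasiSeparatedSpace_of_quasiSeparated z
  haveI : (Coh.structureModule X').IsQuasicoherent := isQuasicoherent_unit
  haveI : (Coh.structureModule Z).IsQuasicoherent := isQuasicoherent_unit
  haveI : ((Coh.push j).obj (Coh.structureModule X')).IsQuasicoherent := QCqs72.isQuasicoherent_pushforward _ j
  let ψ := ClSub.unitToPush j
  haveI : Epi ψ := epi_unitToPush j
  haveI := isQuasicoherent_kernel ψ
  let J : Type u := ↥(RingHom.ker q)
  let co : ∀ U : Z.Opens, P →+* Γ(Z, U) := fun U =>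
    (Z.presheaf.map (homOfLE (le_top : U ≤ ⊤)).op).hom.comp (Coh.toGlobal z : P →+* Γ(Z, ⊤))
  have hnat : ∀ (U : Z.Opens) (a : P), j.app U (co U a) = (X'.presheaf.map (homOfLE (le_top : j ⁻¹ᵁ U ≤ ⊤)).op).hom
      (f'.appTop ((Scheme.ΓSpecIso (CommRingCat.of B)).inv (q a))) := fun U a => by
    have e3 : (Scheme.ΓSpecIso (CommRingCat.of B)).inv (q a) = (Spec.map (CommRingCat.ofHom q)).appTop
        ((Scheme.ΓSpecIso (CommRingCat.of P)).inv a) :=
      DFunLike.congr_fun (congrArg CommRingCat.Hom.hom (Scheme.ΓSpecIso_inv_naturality (CommRingCat.ofHom q))) a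
    rw [e3]
    refine (ConcreteCategory.congr_hom (j.naturality (homOfLE (le_top : U ≤ ⊤)).op)
      (z.appTop ((Scheme.ΓSpecIso (CommRingCat.of P)).inv a))).trans ?_
    show X'.presheaf.map _ (j.appTop _) = _
    congr 1
    rw [← ConcreteCategory.comp_apply (Spec.map (CommRingCat.ofHom q)).appTop, ← Scheme.Hom.comp_appTop, ← sq.w,
      Scheme.Hom.comp_appTop, ConcreteCategory.comp_apply]
  let lf : ∀ a : J, Coh.structureModule Z ⟶ kernel ψ := fun a =>
    kernel.lift ψ (gmul (Coh.structureModule Z) (Coh.toGlobal z a.1)) (by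
      ext U s
      show j.app U (co U a.1 * (show Γ(Z, U) from s)) = 0
      rw [map_mul, hnat, RingHom.mem_ker.1 a.2, map_zero, map_zero, map_zero, zero_mul])
  let e : (∐ fun _ : J => Coh.structureModule Z) ⟶ kernel ψ := Sigma.desc lf
  haveI : Epi e := epi_of_locally_surjective _ fun U s p hp => by
    obtain ⟨V, hV', hpV, hle⟩ := exists_isAffineOpen_mem_and_subset (x := p) (U := U) hp
    let t : Γ(kernel ψ, V) := res _ (hle : V ≤ U) s
    let b : Γ(Z, V) := (kernel.ι ψ).app V t
    have hb0 : j.app V b = 0 := congrArg (fun w : kernel ψ ⟶ _ => w.app V t) (kernel.condition ψ)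
    have hb : b ∈ (RingHom.ker q).map (co V) := ker_quot q hq z sq hV' b hb0
    have key : ∃ c, (kernel.ι ψ).app V (e.app V c) = b := by
      generalize b = b' at hb ⊢
      rw [Ideal.map] at hb
      induction hb using Submodule.span_induction with
      | mem w hw =>
        obtain ⟨a, ha, rfl⟩ := hw
        refine ⟨(Sigma.ι (fun _ : J => Coh.structureModule Z) ⟨a, ha⟩).app V (by exact (1 : Γ(Z, V))), ?_⟩
        refine (congrArg (fun w : Coh.structureModule Z ⟶ Coh.structureModule Z => w.app V (by exact (1 : Γ(Z, V))))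
          (show Sigma.ι (fun _ : J => Coh.structureModule Z) ⟨a, ha⟩ ≫ e ≫ kernel.ι ψ =
            gmul (Coh.structureModule Z) (Coh.toGlobal z a) by rw [Sigma.ι_desc_assoc, kernel.lift_ι])).trans ?_
        exact mul_one (co V a)
      | zero => exact ⟨0, by rw [map_zero, map_zero]; rfl⟩
      | add a b _ _ ha hb =>
        obtain ⟨c, rfl⟩ := ha
        obtain ⟨d, rfl⟩ := hb
        exact ⟨c + d, by rw [map_add, map_add]; rfl⟩
      | smul r a _ ha =>
        obtain ⟨c, rfl⟩ := ha
        exact ⟨r • c, by rw [Scheme.Modules.Hom.app_smul, Scheme.Modules.Hom.app_smul]; rfl⟩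
    obtain ⟨c, hc⟩ := key
    exact ⟨V, hle, c, hpV, EGAProj74.app_injective_of_mono (kernel.ι ψ) V hc⟩
  have hK : Subsingleton (Coh.HH Z (kernel ψ) 1) := subsingleton_h1_genBySections z hV h (kernel ψ) J e
  have hsurj : Function.Surjective (ψ.app ⊤) := app_top_surjective_of_subsingleton P
    (ShortComplex.mk (kernel.ι ψ) ψ (kernel.condition ψ))
    { exact := ShortComplex.exact_of_f_is_kernel _ (kernelIsKernel ψ) } hK
  intro y
  obtain ⟨w, hw⟩ := hsurj y
  obtain ⟨v, rfl⟩ := hz w
  refine ⟨(Spec.map (CommRingCat.ofHom q)).appTop v, ?_⟩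
  rw [← ConcreteCategory.comp_apply, ← Scheme.Hom.comp_appTop, ← sq.w, Scheme.Hom.comp_appTop,
    ConcreteCategory.comp_apply]
  exact hw

/-- Surjectivity onto global functions is stable under base change. -/
theorem surjective_appTop_bc {A B : Type u} [CommRing A] [CommRing B] (f : X ⟶ Spec (CommRingCat.of A)) [IsProper f]
    (hd : ∀ y, topologicalKrullDim ↥(f.fiber y) ≤ (1 : ℕ)) (h : Subsingleton (Coh.HH X (Coh.structureModule X) 1))
    (hf : Function.Surjective f.appTop) (φ : A →+* B) {X' : Scheme.{u}} (f' : X' ⟶ Spec (CommRingCat.of B)) (g : X' ⟶ X)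
    (sq : IsPullback g f' f (Spec.map (CommRingCat.ofHom φ))) : Function.Surjective f'.appTop := by
  obtain ⟨q, j, hq, hj, -, -, hsq, -⟩ := exists_closed_in_flat f φ f' g sq
  haveI := hj
  let P := MvPolynomial B A
  let sP := Spec.map (CommRingCat.ofHom (algebraMap A P))
  have h0 : IsPullback (pullback.fst f sP) (pullback.snd f sP) f sP := IsPullback.of_hasPullback f sP
  haveI : IsProper (pullback.snd f sP) := MorphismProperty.pullback_snd _ _ inferInstance
  exact surjective_appTop_closed q hq (pullback.snd f sP)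
    (vanish_of_dims_le (pullback.snd f sP) (d := 1) (dims_le_of_isPullback h0 hd) 2 (by omega))
    (subsingleton_h1_bc f hd h (algebraMap A P) _ _ h0)
    (surjective_appTop_flat f hf _ _ h0) j f' hsq

/-- The unit map is epi iff it is surjective over affine opens. -/
theorem surjective_app_of_local (f : X ⟶ Y) [QuasiCompact f] [QuasiSeparated f]
    (h : ∀ (y : Y) (U : Y.Opens), y ∈ U → ∃ V ≤ U, y ∈ V ∧ Function.Surjective (f.app V)) {W : Y.Opens}
    (hW : IsAffineOpen W) : Function.Surjective (f.app W) := by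
  haveI : (Coh.structureModule X).IsQuasicoherent := isQuasicoherent_unit
  haveI : (Coh.structureModule Y).IsQuasicoherent := isQuasicoherent_unit
  haveI : ((Coh.push f).obj (Coh.structureModule X)).IsQuasicoherent := QCqs72.isQuasicoherent_pushforward _ f
  haveI : Epi (ClSub.unitToPush f) := epi_of_locally_surjective _ fun U s p hp => by
    obtain ⟨V, hle, hpV, hs⟩ := h p U hp
    obtain ⟨t, ht⟩ := hs (res _ hle s)
    exact ⟨V, hle, t, hpV, ht⟩
  exact CartMod7.app_surjective_of_epi (ClSub.unitToPush f) hW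

end Groth.Agent.Proper66
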