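import Groth.Agent.Approx60.ImmStage
import Groth.Agent.Approx60.ProperLimit
import Groth.Agent.Approx60.ProperDesc
import Groth.Agent.Approx60.DimDesc
import Groth.Agent.Stage62.SubringSpec
import Groth.Agent.E4O.FibreComp
import Mathlib.CategoryTheory.Limits.Connected

/-! Proper morphisms to an affine scheme live in proper morphisms over finitely generated rings, with the same fibre dimension. -/

set_option autoImplicit false
set_option backward.isDefEq.respectTransparency.types false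
set_option linter.style.haveILetI false

universe u

open CategoryTheory CategoryTheory.Limits AlgebraicGeometry Opposite

noncomputable section

namespace Groth.Agent.Proper66

theorem dims_le_of_isPullback {P X Y T : Scheme.{u}} {p : P ⟶ X} {q : P ⟶ T} {f : X ⟶ Y} {g : T ⟶ Y}
    [LocallyOfFiniteType f] (h : IsPullback p q f g) {d : ℕ}
    (hd : ∀ y : Y, topologicalKrullDim ↥(f.fiber y) ≤ d) (t : T) : topologicalKrullDim ↥(q.fiber t) ≤ d := by
  haveI : LocallyOfFiniteType q := MorphismProperty.of_isPullback h inferInstance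
  refine (E4O.dim_fiber_le_iff q t _).2 fun x _ => ?_
  exact le_trans (by exact_mod_cast E4O.fdeg_le_of_isPullback h x) ((E4O.dim_fiber_le_iff f _ _).1 (hd _) (p x) rfl)

theorem forall_fibreDimAt_le_iff {X Y : Scheme.{u}} (f : X ⟶ Y) [LocallyOfFiniteType f] (d : ℕ) :
    (∀ x, FlatMor.fibreDimAt f x ≤ d) ↔ ∀ y : Y, topologicalKrullDim ↥(f.fiber y) ≤ d := by
  rw [← Approx60.fdegLE_iff]
  refine ⟨fun h y => (E4O.dim_fiber_le_iff f y _).2 fun x _ => by exact_mod_cast h.2 x,
    fun h => ⟨inferInstance, fun x => ?_⟩⟩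
  exact_mod_cast (E4O.dim_fiber_le_iff f (f x) _).1 (h _) x rfl

/-- A proper morphism embeds in a proper morphism of finite presentation with fibres of the same dimension bound. -/
theorem exists_fp_dim_le {X S : Scheme.{u}} (f : X ⟶ S) [IsProper f] [CompactSpace S] [QuasiSeparatedSpace S]
    (d : ℕ) (hd : ∀ s : S, topologicalKrullDim ↥(f.fiber s) ≤ d) :
    ∃ (X' : Scheme.{u}) (f' : X' ⟶ S) (j : X ⟶ X'), IsClosedImmersion j ∧ IsProper f' ∧
      LocallyOfFinitePresentation f' ∧ j ≫ f' = f ∧ ∀ s : S, topologicalKrullDim ↥(f'.fiber s) ≤ d := by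
  obtain ⟨I, _, _, D, c, hc, e, hD, hobj⟩ := Approx60.exists_proper_fp_closed_limit f
  haveI : IsConnected I := IsCofiltered.isConnected _
  let DX := D ⋙ Over.forget S
  let φ : DX ⟶ (Functor.const I).obj S :=
    { app := fun i => (D.obj i).hom, naturality := fun i j a => by simp [DX] }
  let cX := (Over.forget S).mapCone c
  have hX : IsLimit cX := isLimitOfPreserves _ hc
  haveI : ∀ (i j : I) (a : i ⟶ j), IsAffineHom (((Functor.const I).obj S).map a) := fun i j a =>
    inferInstanceAs (IsAffineHom (𝟙 S))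
  haveI : ∀ i, LocallyOfFiniteType (φ.app i) := fun i => by
    haveI := (hobj i).2.1; exact inferInstanceAs (LocallyOfFiniteType (D.obj i).hom)
  haveI : ∀ i, QuasiCompact (φ.app i) := fun i => by
    haveI := (hobj i).2.1; exact inferInstanceAs (QuasiCompact (D.obj i).hom)
  haveI : ∀ i : I, CompactSpace (((Functor.const I).obj S).obj i) := fun i => inferInstanceAs (CompactSpace S)
  have hcl : ∀ (i j : I) (a : i ⟶ j),
      IsClosedImmersion (pullback.lift (DX.map a) (φ.app i) (φ.naturality a)) := fun i j a => by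
    haveI : IsClosedImmersion (pullback.lift (DX.map a) (φ.app i) (φ.naturality a) ≫
        pullback.fst (φ.app j) (((Functor.const I).obj S).map a)) := by
      rw [pullback.lift_fst]; exact hD i j a
    haveI : IsIso (((Functor.const I).obj S).map a) := inferInstanceAs (IsIso (𝟙 S))
    exact IsClosedImmersion.of_comp _ (pullback.fst (φ.app j) (((Functor.const I).obj S).map a))
  have hd' : ∀ s : S, topologicalKrullDim ↥((e.hom.left ≫ f).fiber s) ≤ d :=
    dims_le_of_isPullback (p := e.hom.left) (g := 𝟙 S) (IsPullback.of_horiz_isIso ⟨by simp⟩) hd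
  obtain ⟨i, hi⟩ := LimTop61.exists_fibre_dim_le_stage φ cX (constCone I S) hX (isLimitConstCone I S) hcl
    (e.hom.left ≫ f) (fun i => by
      show (e.hom.left ≫ f) ≫ 𝟙 S = (c.π.app i).left ≫ (D.obj i).hom
      have h1 : e.hom.left ≫ f = c.pt.hom := Over.w e.hom
      rw [Category.comp_id, h1]
      exact (Over.w (c.π.app i)).symm) d hd'
  refine ⟨(D.obj i).left, (D.obj i).hom, e.inv.left ≫ (c.π.app i).left, ?_, (hobj i).2.1, (hobj i).2.2, ?_, hi⟩
  · haveI := (hobj i).1
    haveI : IsIso e.inv.left := inferInstanceAs (IsIso ((Over.forget S).map e.inv))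
    infer_instance
  · rw [Category.assoc, Over.w (c.π.app i)]
    exact Over.w e.inv

/-- Descent of a proper morphism of finite presentation together with a fibre dimension bound. -/
theorem exists_stage {I : Type u} [SmallCategory I] [IsCofiltered I] (D : I ⥤ Scheme.{u}) (c : Cone D)
    (hc : IsLimit c) [∀ (i j : I) (a : i ⟶ j), IsAffineHom (D.map a)] [∀ i, CompactSpace (D.obj i)]
    [∀ i, QuasiSeparatedSpace (D.obj i)] {X' : Scheme.{u}} (f' : X' ⟶ c.pt) [IsProper f']
    [LocallyOfFinitePresentation f'] (d : ℕ) (hd' : ∀ s, topologicalKrullDim ↥(f'.fiber s) ≤ d) :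
    ∃ (i : I) (X₀ : Scheme.{u}) (f₀ : X₀ ⟶ D.obj i) (g : X' ⟶ X₀), IsProper f₀ ∧
      (∀ y, topologicalKrullDim ↥(f₀.fiber y) ≤ d) ∧ IsPullback g f' f₀ (c.π.app i) := by
  obtain ⟨i₁, X₁, f₁, g₁, hfp₁, hqc₁, hqs₁, h₁⟩ := Approx60.S0591 D c hc X' f'
  haveI := hfp₁
  haveI := hqc₁
  haveI := hqs₁
  haveI : CompactSpace X₁ := QuasiCompact.compactSpace_of_compactSpace f₁
  haveI : QuasiSeparatedSpace X₁ := quasiSeparatedSpace_of_quasiSeparated f₁
  obtain ⟨i₂, φ₂, X₂, Y₂, f₂, g₂, p₂, q₂, hY₂, hX₂, hf₂⟩ := Approx60.S2074 D c hc i₁ f₁ (𝟙 _) f' (𝟙 _)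
    (c.π.app i₁) g₁ (IsPullback.of_vert_isIso ⟨by simp⟩) h₁
  haveI := hf₂
  haveI : IsIso g₂ := hY₂.isIso_snd_of_isIso
  let f₂' := f₂ ≫ g₂
  have hsq₂ : IsPullback q₂ f₂' f₁ (D.map φ₂) := by
    have := hX₂.paste_vert hY₂
    rwa [Category.comp_id] at this
  let g' : X' ⟶ X₂ := hsq₂.lift g₁ (f' ≫ c.π.app i₂) (by rw [Category.assoc, c.w φ₂]; exact h₁.w)
  have hg' : IsPullback g' f' f₂' (c.π.app i₂) := by
    refine IsPullback.of_right ?_ (hsq₂.lift_snd _ _ _) hsq₂
    rw [hsq₂.lift_fst]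
    convert h₁ using 1
    exact c.w φ₂
  haveI : CompactSpace X₂ := QuasiCompact.compactSpace_of_compactSpace f₂'
  haveI : QuasiSeparatedSpace X₂ := quasiSeparatedSpace_of_quasiSeparated f₂'
  obtain ⟨i₃, φ₃, X₃, Y₃, f₃, g₃, p₃, q₃, hY₃, hX₃, hd₃⟩ := Approx60.S9195 D c hc i₂ f₂' (𝟙 _) d f' (𝟙 _)
    (c.π.app i₂) g' (IsPullback.of_vert_isIso ⟨by simp⟩) hg' ((forall_fibreDimAt_le_iff f' d).2 hd')
  haveI : IsIso g₃ := hY₃.isIso_snd_of_isIso
  let f₃' := f₃ ≫ g₃
  have hsq₃ : IsPullback q₃ f₃' f₂' (D.map φ₃) := by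
    have := hX₃.paste_vert hY₃
    rwa [Category.comp_id] at this
  haveI : LocallyOfFiniteType f₃ := MorphismProperty.of_isPullback hX₃ inferInstance
  let g'' : X' ⟶ X₃ := hsq₃.lift g' (f' ≫ c.π.app i₃) (by rw [Category.assoc, c.w φ₃]; exact hg'.w)
  have hg'' : IsPullback g'' f' f₃' (c.π.app i₃) := by
    refine IsPullback.of_right ?_ (hsq₃.lift_snd _ _ _) hsq₃
    rw [hsq₃.lift_fst]
    convert hg' using 1
    exact c.w φ₃
  refine ⟨i₃, X₃, f₃', g'', MorphismProperty.of_isPullback hsq₃ inferInstance, fun y => ?_, hg''⟩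
  exact dims_le_of_isPullback (p := 𝟙 X₃) (g := inv g₃) (IsPullback.of_horiz_isIso ⟨by simp [f₃']⟩)
    ((forall_fibreDimAt_le_iff f₃ d).1 hd₃) y

variable {A : Type u} [CommRing A]

/-- A proper scheme over a ring is closed in the base change of a proper scheme over a finitely generated subring. -/
theorem exists_model {X : Scheme.{u}} (f : X ⟶ Spec (CommRingCat.of A)) [IsProper f] (d : ℕ)
    (hd : ∀ y, topologicalKrullDim ↥(f.fiber y) ≤ d) :
    ∃ (S : Stage62.FgSubring A) (X₀ : Scheme.{u}) (f₀ : X₀ ⟶ Spec (CommRingCat.of S.1))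
      (j : X ⟶ pullback f₀ (Spec.map (CommRingCat.ofHom S.1.val.toRingHom))),
      IsProper f₀ ∧ (∀ y, topologicalKrullDim ↥(f₀.fiber y) ≤ d) ∧ IsClosedImmersion j ∧
      j ≫ pullback.snd _ _ = f := by
  obtain ⟨X', f', j₀, hj₀, hf', hfp, hjf, hd'⟩ := exists_fp_dim_le f d hd
  haveI : ∀ i, CompactSpace ((Stage62.subringSpec A).obj i) := fun i => inferInstance
  haveI : ∀ i, QuasiSeparatedSpace ((Stage62.subringSpec A).obj i) := fun i => inferInstance
  obtain ⟨i, X₀, f₀, g, h₀, hd₀, hg⟩ := @exists_stage _ _ _ (Stage62.subringSpec A) (Stage62.subringCone A)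
    (Stage62.isLimitSubringCone A) _ _ _ X' f' hf' hfp d hd'
  haveI := hj₀
  have hg' : IsPullback g f' (f₀ : X₀ ⟶ Spec (CommRingCat.of i.unop.1))
      (Spec.map (CommRingCat.ofHom i.unop.1.val.toRingHom)) := hg
  refine ⟨i.unop, X₀, f₀, j₀ ≫ hg'.isoPullback.hom, h₀, hd₀, inferInstance, ?_⟩
  exact (Category.assoc _ _ _).trans ((congrArg (fun x => j₀ ≫ x) hg'.isoPullback_hom_snd).trans hjf)

end Groth.Agent.Proper66
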