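import Groth.Agent.Proper66.Model
import Groth.Agent.Crv77.HH
import Groth.Agent.Serre71.Finite
import Groth.Agent.Coh69.RelVanish
import Groth.Agent.Coh69.AffinePush
import Groth.Agent.Coh69.FlatBC
import Groth.Agent.TopCoh49.Noetherian
import Groth.Agent.FlatMor66.StratCoh
import Groth.Agent.E4O.SectionCompGen
import Groth.Agent.ConsProp93.Locus

/-! Cohomology of quasi-coherent modules on a proper scheme over an affine base vanishes above the fibre dimension. -/

set_option autoImplicit false
set_option linter.style.haveILetI false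
set_option linter.unusedSectionVars false
set_option backward.isDefEq.respectTransparency.types false

universe u

open CategoryTheory CategoryTheory.Limits AlgebraicGeometry TopologicalSpace Opposite
open Groth.Agent.QC70

noncomputable section

namespace Groth.Agent.Proper66

variable {X : Scheme.{u}}

/-- Multiplication by a global function. -/
def gmul (M : X.Modules) (r : Coh.Γtop X) : M ⟶ M :=
  ⟨PresheafOfModules.homMk (Coh.smulAb M r).hom fun U a m => by
    show Coh.resTop X U r • (a • m) = a • (Coh.resTop X U r • m)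
    rw [smul_smul, smul_smul]
    congr 1
    exact mul_comm (G := X.presheaf.obj U) _ _⟩

theorem toAbF_gmul (M : X.Modules) (r : Coh.Γtop X) : (Crv77.toAbF X).map (gmul M r) = Coh.smulAb M r := rfl

theorem gmul_natural {M N : X.Modules} (φ : M ⟶ N) (r : Coh.Γtop X) : gmul M r ≫ φ = φ ≫ gmul N r :=
  (SheafOfModules.toSheaf X.ringCatSheaf).map_injective (show (Crv77.toAbF X).map _ = (Crv77.toAbF X).map _ by
    rw [Functor.map_comp, Functor.map_comp, toAbF_gmul, toAbF_gmul]
    exact Crv77.smulAb_natural φ r)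

theorem surjective_stalk_gmul (M : X.Modules) (r : Coh.Γtop X) (x : X) (hx : x ∈ X.basicOpen (show Γ(X, ⊤) from r)) :
    Function.Surjective (stalkMapM (gmul M r) x) := by
  intro e
  have hu := isUnit_germ hx
  refine ⟨(↑hu.unit⁻¹ : X.presheaf.stalk x) • e, ?_⟩
  show stalkLinear (gmul M r) x _ = e
  rw [map_smul]
  obtain ⟨W, hW, s, rfl⟩ := germM_exist e
  show (↑hu.unit⁻¹ : X.presheaf.stalk x) • stalkMapM (gmul M r) x _ = _
  rw [stalkMapM_germ]
  show (↑hu.unit⁻¹ : X.presheaf.stalk x) • germM M W x hW (resO X (le_top : W ≤ ⊤) (show Γ(X, ⊤) from r) • s) = _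
  rw [germM_smul, germ_resO, smul_smul, hu.val_inv_mul, one_smul]

/-- Quasi-coherent modules supported in a closed set of dimension at most `d` have no cohomology above `d`. -/
theorem supp_vanish [CompactSpace X] [QuasiSeparatedSpace X] (Z : Set X) [NoetherianSpace Z] {d : ℕ}
    (hd : topologicalKrullDim Z ≤ d) (K : X.Modules) (hK : K.IsQuasicoherent) (hKZ : CohB1.support K ⊆ Z)
    (p : ℕ) (hp : d < p) : Subsingleton (Coh.HH X K p) := by
  rw [← FlatMor66.StratCoh.subsingleton_E_iff]
  refine FlatMor66.StratCoh.vanish_of_finiteType Z p (fun G hGq hGf hG => ?_) K hK hKZ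
  haveI := hGq
  haveI := hGf
  obtain ⟨J, -, hJiso, -, hJs⟩ := QCPull72.exists_schemeTheoreticSupport G
  let i := J.subschemeι
  let M := (Scheme.Modules.pullback i).obj G
  haveI : M.IsQuasicoherent := QCPull72.isQuasicoherent_pullback i G
  have hmem : ∀ w, i w ∈ Z := fun w => by
    refine hG (hJs ▸ ?_)
    rw [← Scheme.IdealSheafData.range_subschemeι]; exact ⟨w, rfl⟩
  let ρ : J.subscheme → Z := fun w => ⟨i w, hmem w⟩
  have hρ : Topology.IsInducing ρ := i.isEmbedding.isInducing.codRestrict hmem
  haveI : NoetherianSpace J.subscheme := hρ.noetherianSpace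
  have hdim : topologicalKrullDim J.subscheme ≤ d := (hρ.topologicalKrullDim_le).trans hd
  have h2 : Subsingleton (Coh.HH J.subscheme M p) :=
    TopCoh49.subsingleton_H_of_dim_lt (X := TopCat.of J.subscheme) hdim (Coh.toAb M) p hp
  obtain ⟨e⟩ := Coh69.nonempty_hh_push i M p
  refine FlatMor66.StratCoh.subsingleton_E_of_iso
    (asIso ((Scheme.Modules.pullbackPushforwardAdjunction i).unit.app G)) p ?_
  rw [FlatMor66.StratCoh.subsingleton_E_iff]
  exact e.symm.toEquiv.subsingleton

section Base

variable {A : Type u} [CommRing A] (f : X ⟶ Spec (CommRingCat.of A))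

/-- All quasi-coherent cohomology vanishes in degree `p`. -/
def Vanish (X : Scheme.{u}) (p : ℕ) : Prop := ∀ G : X.Modules, G.IsQuasicoherent → Subsingleton (Coh.HH X G p)

theorem exists_bound [QuasiCompact f] [QuasiSeparated f] : ∃ N : ℕ, ∀ p, N ≤ p → Vanish X p := by
  obtain ⟨N, hN⟩ := Coh69.exists_bound_preimage_basicOpen f (isAffineOpen_top _)
  refine ⟨N, fun p hp G hG => ?_⟩
  have h := hN G hG 1 p hp
  rw [Scheme.basicOpen_of_isUnit _ isUnit_one, Scheme.Hom.preimage_top] at h
  exact (FlatMor66.StratCoh.subsingleton_E_iff G p).1 h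

variable [X.Over (Spec (CommRingCat.of A))]

theorem hmap_surjective_of_epi {p : ℕ} (h : Vanish X (p + 1)) {F G : X.Modules} [F.IsQuasicoherent]
    [G.IsQuasicoherent] (π : F ⟶ G) [Epi π] : Function.Surjective (Crv77.hmap A π p) := by
  haveI := isQuasicoherent_kernel π
  have hS : (ShortComplex.mk (kernel.ι π) π (kernel.condition π)).ShortExact :=
    { exact := ShortComplex.exact_of_f_is_kernel _ (kernelIsKernel π) }
  intro y
  have h1 : Subsingleton (Coh.HH X (kernel π) (p + 1)) := h _ ‹_›
  exact (Crv77.exact_g_δ A hS p y).1 (h1.elim _ _)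

/-- Modulo a global function. -/
theorem ker_hmap_cokernel {p : ℕ} (h : Vanish X (p + 1)) (F : X.Modules) [F.IsQuasicoherent] (a : A)
    (x : Coh.HH X F p)
    (hx : Crv77.hmap A (cokernel.π (gmul F (Coh.toGlobal (X ↘ Spec (CommRingCat.of A)) a))) p x = 0) :
    ∃ y, x = a • y := by
  set φ := gmul F (Coh.toGlobal (X ↘ Spec (CommRingCat.of A)) a)
  haveI : (Abelian.image φ).IsQuasicoherent := isQuasicoherent_abelianImage φ
  have hS : (ShortComplex.mk (Abelian.image.ι φ) (cokernel.π φ) (kernel.condition _)).ShortExact :=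
    { exact := ShortComplex.exact_of_f_is_kernel _ (kernelIsKernel _) }
  obtain ⟨z, hz⟩ := (Crv77.exact_f_g A hS p x).1 hx
  obtain ⟨y, rfl⟩ := hmap_surjective_of_epi (A := A) h (Abelian.factorThruImage φ) z
  refine ⟨y, ?_⟩
  rw [← hz, Crv77.hmap_comp, Abelian.image.fac]
  rfl

theorem exists_quot_list {p : ℕ} (h : Vanish X (p + 1)) (l : List A) :
    ∀ (F : X.Modules), F.IsQuasicoherent → ∃ (G : X.Modules) (π : F ⟶ G), Epi π ∧ G.IsQuasicoherent ∧
      (∀ a ∈ l, gmul G (Coh.toGlobal (X ↘ Spec (CommRingCat.of A)) a) = 0) ∧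
      ∀ x, Crv77.hmap A π p x = 0 → x ∈ Ideal.span {a | a ∈ l} • (⊤ : Submodule A (Coh.HH X F p)) := by
  induction l with
  | nil =>
    intro F hF
    exact ⟨F, 𝟙 F, inferInstance, hF, by simp, fun x hx => by
      rw [Crv77.hmap_id] at hx; subst hx; exact zero_mem _⟩
  | cons a l ih =>
    intro F hF
    obtain ⟨G₁, π₁, hπ₁, hG₁, hl, hker⟩ := ih F hF
    let φ := gmul G₁ (Coh.toGlobal (X ↘ Spec (CommRingCat.of A)) a)
    refine ⟨cokernel φ, π₁ ≫ cokernel.π φ, epi_comp _ _, isQuasicoherent_cokernel φ, fun b hb => ?_, fun x hx => ?_⟩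
    · rw [← cancel_epi (cokernel.π φ), ← gmul_natural, comp_zero]
      rcases List.mem_cons.1 hb with rfl | hb
      · exact cokernel.condition φ
      · rw [hl b hb, zero_comp]
    · rw [← Crv77.hmap_comp] at hx
      obtain ⟨y', hy'⟩ := ker_hmap_cokernel h G₁ a _ hx
      obtain ⟨y, rfl⟩ := hmap_surjective_of_epi (A := A) h π₁ y'
      have h1 : x - a • y ∈ Ideal.span {b | b ∈ l} • (⊤ : Submodule A (Coh.HH X F p)) :=
        hker _ (by rw [map_sub, map_smul, hy', sub_self])
      have h2 : Ideal.span {b | b ∈ l} ≤ Ideal.span {b | b ∈ a :: l} :=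
        Ideal.span_mono fun b hb => List.mem_cons_of_mem _ hb
      have h3 : a • y ∈ Ideal.span {b | b ∈ a :: l} • (⊤ : Submodule A (Coh.HH X F p)) :=
        Submodule.smul_mem_smul (Ideal.subset_span List.mem_cons_self) trivial
      rw [← sub_add_cancel x (a • y)]
      exact add_mem (Submodule.smul_mono_left h2 h1) h3

end Base

theorem closedFibre_subset {A : Type u} [CommRing A] [IsLocalRing A] [X.Over (Spec (CommRingCat.of A))]
    (G : X.Modules) (m : Set A) (hm : IsLocalRing.maximalIdeal A = Ideal.span m)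
    (h : ∀ a ∈ m, gmul G (Coh.toGlobal (X ↘ Spec (CommRingCat.of A)) a) = 0) :
    CohB1.support G ⊆ (X ↘ Spec (CommRingCat.of A)) ⁻¹' {IsLocalRing.closedPoint A} := by
  intro x hx
  by_contra hne
  refine hx (subsingleton_of_forall_eq 0 fun e => ?_)
  have hp : ∃ a ∈ m, a ∉ (show PrimeSpectrum A from (X ↘ Spec (CommRingCat.of A)) x).asIdeal := by
    by_contra hcon
    push Not at hcon
    refine hne (PrimeSpectrum.ext ?_)
    exact ((IsLocalRing.maximalIdeal.isMaximal A).eq_of_le
      (show PrimeSpectrum A from (X ↘ Spec (CommRingCat.of A)) x).2.ne_top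
      (hm ▸ Ideal.span_le.2 fun a ha => hcon a ha)).symm
  obtain ⟨a, ha, hax⟩ := hp
  have hb : x ∈ X.basicOpen (show Γ(X, ⊤) from Coh.toGlobal (X ↘ Spec (CommRingCat.of A)) a) := by
    refine (Scheme.preimage_basicOpen (X ↘ Spec (CommRingCat.of A)) ((Scheme.ΓSpecIso (CommRingCat.of A)).inv a)).le ?_
    show (X ↘ Spec (CommRingCat.of A)) x ∈ (Spec (CommRingCat.of A)).basicOpen ((Scheme.ΓSpecIso (CommRingCat.of A)).inv a)
    rw [basicOpen_eq_of_affine]
    exact hax
  obtain ⟨e', rfl⟩ := surjective_stalk_gmul G _ x hb e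
  rw [h a ha]
  exact stalkMapM_zero _ _

/-- Vanishing over a Noetherian local ring for coherent modules. -/
theorem coh_local {A : Type u} [CommRing A] [IsLocalRing A] [IsNoetherianRing A]
    [X.Over (Spec (CommRingCat.of A))] [IsProper (X ↘ Spec (CommRingCat.of A))] {d : ℕ}
    (hd : topologicalKrullDim ↥((X ↘ Spec (CommRingCat.of A)).fiber (IsLocalRing.closedPoint A)) ≤ d)
    {p : ℕ} (hp : d < p) (h : Vanish X (p + 1)) (F : X.Modules) (hF : Coh.IsCoh F) :
    Subsingleton (Coh.HH X F p) := by
  haveI : CompactSpace X := QuasiCompact.compactSpace_of_compactSpace (X ↘ Spec (CommRingCat.of A))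
  haveI : QuasiSeparatedSpace X := quasiSeparatedSpace_of_quasiSeparated (X ↘ Spec (CommRingCat.of A))
  haveI := Serre71.finite_hh_of_isProper (A := A) F hF p
  obtain ⟨s, hs⟩ := IsNoetherian.noetherian (IsLocalRing.maximalIdeal A)
  obtain ⟨G, π, _, hG, hl, hker⟩ := exists_quot_list (A := A) h s.toList F hF.1
  let f := X ↘ Spec (CommRingCat.of A)
  let e : f.fiber (IsLocalRing.closedPoint A) ≃ₜ ↥(f ⁻¹' {IsLocalRing.closedPoint A}) :=
    f.fiberHomeo (IsLocalRing.closedPoint A)
  haveI := E4O.noetherianSpace_fiber f (IsLocalRing.closedPoint A)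
  haveI : NoetherianSpace ↥(f ⁻¹' {IsLocalRing.closedPoint A}) :=
    e.symm.isInducing.noetherianSpace
  have hG0 : Subsingleton (Coh.HH X G p) :=
    supp_vanish (f ⁻¹' {IsLocalRing.closedPoint A})
      ((IsHomeomorph.topologicalKrullDim_eq _ e.isHomeomorph).symm.trans_le hd) G hG
      (closedFibre_subset (A := A) G s hs.symm fun a ha => hl a (Finset.mem_toList.2 ha)) p hp
  have htop : (⊤ : Submodule A (Coh.HH X F p)) ≤ IsLocalRing.maximalIdeal A • (⊤ : Submodule A _) := by
    intro x _
    have := hker x (hG0.elim _ _)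
    have e' : {a | a ∈ s.toList} = (s : Set A) := by ext; simp
    rw [e'] at this
    rw [← hs]
    exact this
  have h0 := Submodule.eq_bot_of_le_smul_of_le_jacobson_bot (IsLocalRing.maximalIdeal A) ⊤
    Module.Finite.fg_top htop (IsLocalRing.maximalIdeal_le_jacobson _)
  exact (Submodule.subsingleton_iff A).1 (subsingleton_of_bot_eq_top h0.symm)

/-- Vanishing over a Noetherian ring for coherent modules, given vanishing in the next degree over all
localisations. -/
theorem coh_noeth : ∀ (k : ℕ) {A : Type u} [CommRing A] [IsNoetherianRing A] {X : Scheme.{u}}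
    (f : X ⟶ Spec (CommRingCat.of A)) [IsProper f] {d : ℕ},
    (∀ y, topologicalKrullDim ↥(f.fiber y) ≤ d) → ∀ p, d < p → (∀ q, p + k ≤ q → Vanish X q) → Vanish X p := by
  intro k
  induction k with
  | zero => intro A _ _ X f _ d _ p _ h; exact h p le_rfl
  | succ k ih =>
    intro A _ _ X f _ d hd p hp h
    haveI : IsLocallyNoetherian X := LocallyOfFiniteType.isLocallyNoetherian f
    haveI : CompactSpace X := QuasiCompact.compactSpace_of_compactSpace f
    haveI : IsNoetherian X := ⟨⟩
    haveI : X.IsSeparated := ⟨by rw [← terminal.comp_from f]; infer_instance⟩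
    haveI : QuasiSeparatedSpace X := quasiSeparatedSpace_of_quasiSeparated f
    intro G hG
    suffices hc : ∀ F : X.Modules, Coh.IsCoh F → Subsingleton (Coh.HH X F p) by
      rw [← FlatMor66.StratCoh.subsingleton_E_iff]
      refine FlatMor66.StratCoh.vanish_of_finiteType Set.univ p (fun F hFq hFf _ => ?_) G hG (Set.subset_univ _)
      rw [FlatMor66.StratCoh.subsingleton_E_iff]
      exact hc F ⟨hFq, hFf⟩
    intro F hF
    let _ : X.Over (Spec (CommRingCat.of A)) := ⟨f⟩
    haveI hloc : ∀ (P : Ideal A) [P.IsMaximal], IsLocalizedModule P.primeCompl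
        (TensorProduct.mk A (Localization.AtPrime P) (Coh.HH X F p) 1) := fun P _ =>
      (isLocalizedModule_iff_isBaseChange P.primeCompl (Localization.AtPrime P) _).2
        (TensorProduct.isBaseChange A (Coh.HH X F p) (Localization.AtPrime P))
    refine Module.subsingleton_of_localization_maximal (fun (P : Ideal A) [P.IsMaximal] =>
        TensorProduct A (Localization.AtPrime P) (Coh.HH X F p))
      (fun P _ => TensorProduct.mk A (Localization.AtPrime P) (Coh.HH X F p) 1) fun P _ => ?_
    let g := Spec.map (CommRingCat.ofHom (algebraMap A (Localization.AtPrime P)))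
    let X' := pullback f g
    let _ : X'.Over (Spec (CommRingCat.of (Localization.AtPrime P))) := ⟨pullback.snd f g⟩
    haveI : IsProper (pullback.snd f g) := MorphismProperty.pullback_snd _ _ inferInstance
    haveI : F.IsQuasicoherent := hF.1
    haveI : IsProper (X' ↘ Spec (CommRingCat.of (Localization.AtPrime P))) := ‹IsProper (pullback.snd f g)›
    obtain ⟨e⟩ := Coh69.FlatBC.nonempty_hh_flat (A := A) (B := Localization.AtPrime P) f (pullback.snd f g)
      (pullback.fst f g) (IsPullback.of_hasPullback f g) F rfl rfl p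
    have hd' : ∀ y, topologicalKrullDim ↥((pullback.snd f g).fiber y) ≤ d :=
      dims_le_of_isPullback (IsPullback.of_hasPullback f g) hd
    haveI : IsAffineHom (pullback.fst f g) := MorphismProperty.pullback_fst _ _ inferInstance
    have hbd : ∀ q, p + (k + 1) ≤ q → Vanish X' q := fun q hq K hK => by
      haveI := hK
      obtain ⟨e'⟩ := Coh69.nonempty_hh_push (pullback.fst f g) K q
      haveI := h q hq ((Coh.push (pullback.fst f g)).obj K) (QCqs72.isQuasicoherent_pushforward _ _)
      exact e'.toEquiv.subsingleton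
    have hsub : Subsingleton (Coh.HH X' ((Scheme.Modules.pullback (pullback.fst f g)).obj F) p) :=
      coh_local (A := Localization.AtPrime P) (hd' _) hp
        (ih (pullback.snd f g) hd' (p + 1) (by omega) fun q hq => hbd q (by omega)) _
        (ConsProp93.isCoh_pullback _ hF)
    exact e.toEquiv.subsingleton

/-- Cohomology of quasi-coherent modules vanishes above the fibre dimension. -/
theorem vanish_of_dims_le {A : Type u} [CommRing A] {X : Scheme.{u}} (f : X ⟶ Spec (CommRingCat.of A))
    [IsProper f] {d : ℕ} (hd : ∀ y, topologicalKrullDim ↥(f.fiber y) ≤ d) (p : ℕ) (hp : d < p) : Vanish X p := by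
  obtain ⟨S, X₀, f₀, j, hf₀, hd₀, hj, -⟩ := exists_model f d hd
  haveI := hf₀
  haveI := hj
  haveI : IsNoetherianRing S.1 := by
    haveI : Algebra.FiniteType ℤ S.1 := S.1.fg_iff_finiteType.1 S.2
    exact Algebra.FiniteType.isNoetherianRing ℤ S.1
  obtain ⟨N, hN⟩ := exists_bound f₀
  have h0 := coh_noeth N f₀ hd₀ p hp fun q hq => hN q (by omega)
  let g := j ≫ pullback.fst f₀ (Spec.map (CommRingCat.ofHom S.1.val.toRingHom))
  haveI : IsAffineHom (pullback.fst f₀ (Spec.map (CommRingCat.ofHom S.1.val.toRingHom))) :=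
    MorphismProperty.pullback_fst _ _ inferInstance
  intro F hF
  haveI := hF
  obtain ⟨e⟩ := Coh69.nonempty_hh_push g F p
  haveI : QuasiSeparatedSpace X₀ := quasiSeparatedSpace_of_quasiSeparated f₀
  haveI := h0 ((Coh.push g).obj F) (QCqs72.isQuasicoherent_pushforward _ _)
  exact e.toEquiv.subsingleton

end Groth.Agent.Proper66
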