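import Groth.Agent.Proper66.Vanish
import Groth.Agent.TopCoh49.StalkRpush

/-! Higher direct images of quasi-coherent modules vanish above the fibre dimension. -/

set_option autoImplicit false
set_option linter.style.haveILetI false
set_option backward.isDefEq.respectTransparency.types false

universe u

open CategoryTheory CategoryTheory.Limits AlgebraicGeometry TopologicalSpace Opposite

noncomputable section

namespace Groth.Agent.Proper66

variable {X Y : Scheme.{u}} (f : X ⟶ Y) [IsProper f] {d : ℕ}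

/-- The restriction of a proper morphism over an affine open, over the spectrum of its ring. -/
theorem vanish_preimage {W : Y.Opens} (hW : IsAffineOpen W)
    (hd : ∀ y ∈ W, topologicalKrullDim ↥(f.fiber y) ≤ d) {p : ℕ} (hp : d < p) :
    Vanish (f ⁻¹ᵁ W : Scheme.{u}) p := by
  let q : (f ⁻¹ᵁ W : Scheme.{u}) ⟶ Spec (CommRingCat.of Γ(Y, W)) := (f ∣_ W) ≫ hW.isoSpec.hom
  haveI : IsProper (f ∣_ W) := MorphismProperty.of_isPullback (isPullback_morphismRestrict f W).flip inferInstance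
  haveI : IsProper q := inferInstanceAs (IsProper (_ ≫ _))
  have h : IsPullback (f ⁻¹ᵁ W).ι q f hW.fromSpec := by
    have hi : hW.isoSpec.hom ≫ hW.fromSpec = W.ι := by
      rw [← hW.isoSpec_inv_ι, Iso.hom_inv_id_assoc]
    have h1 : IsPullback (𝟙 (f ⁻¹ᵁ W : Scheme.{u})) q (f ∣_ W) hW.isoSpec.inv :=
      IsPullback.of_horiz_isIso ⟨by simp [q]⟩
    have := h1.paste_horiz (isPullback_morphismRestrict f W).flip
    rwa [Category.id_comp, hW.isoSpec_inv_ι] at this
  refine vanish_of_dims_le q (d := d) (fun t => ?_) p hp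
  refine (E4O.dim_fiber_le_iff q t _).2 fun x _ => ?_
  refine le_trans (by exact_mod_cast E4O.fdeg_le_of_isPullback h x)
    ((E4O.dim_fiber_le_iff f _ _).1 (hd _ ?_) ((f ⁻¹ᵁ W).ι x) rfl)
  exact x.2

theorem subsingleton_HE_preimage {W : Y.Opens} (hW : IsAffineOpen W)
    (hd : ∀ y ∈ W, topologicalKrullDim ↥(f.fiber y) ≤ d) {p : ℕ} (hp : d < p) (M : X.Modules) [M.IsQuasicoherent] :
    Subsingleton (Coh69.HE (Coh.toAb M) p (f ⁻¹ᵁ W)) := by
  haveI := vanish_preimage f hW hd hp (M.restrict (f ⁻¹ᵁ W).ι) inferInstance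
  obtain ⟨e⟩ := Coh69.nonempty_hhon M (f ⁻¹ᵁ W) p
  exact e.symm.toEquiv.subsingleton

theorem isOpen_dims_le : IsOpen {y : Y | topologicalKrullDim ↥(f.fiber y) ≤ d} := by
  rw [← isClosed_compl_iff]
  have key : {y : Y | topologicalKrullDim ↥(f.fiber y) ≤ d}ᶜ = f '' {x : X | ¬ (FlatMor.fibreDimAt f x ≤ d)} := by
    ext s
    constructor
    · intro hs
      have : ¬ ∀ x, f x = s → ((E4O.fdeg f x : ℕ) : WithBot ℕ∞) ≤ d := fun h => hs ((E4O.dim_fiber_le_iff f s _).2 h)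
      push Not at this
      obtain ⟨x, hx, hlt⟩ := this
      exact ⟨x, not_le.2 (hlt.trans_le (E4O.fdeg_le_fibreDimAt specializes_rfl rfl)), hx⟩
    · rintro ⟨x, hx, rfl⟩ hle
      exact hx ((E4O.fibreDimAt_le_dim_fiber f x).trans hle)
  rw [key]
  refine f.isClosedMap _ (isOpen_compl_iff.1 (isOpen_iff_forall_mem_open.2 fun x hx => ?_))
  obtain ⟨U, hxU, hU⟩ := E4O.exists_open_forall_fibreDimAt_le f x
  exact ⟨U, fun x' hx' h => h ((hU x' hx').trans (not_not.1 hx)), U.isOpen, hxU⟩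

theorem exists_affine_nhd (y : Y) (hd : topologicalKrullDim ↥(f.fiber y) ≤ d) (U : Y.Opens) (hy : y ∈ U) :
    ∃ W : Y.Opens, IsAffineOpen W ∧ y ∈ W ∧ W ≤ U ∧ ∀ z ∈ W, topologicalKrullDim ↥(f.fiber z) ≤ d := by
  obtain ⟨W, hW, hyW, hle⟩ := exists_isAffineOpen_mem_and_subset (x := y) (U := U ⊓ ⟨_, isOpen_dims_le f (d := d)⟩) ⟨hy, hd⟩
  exact ⟨W, hW, hyW, fun z hz => (hle hz).1, fun z hz => (hle hz).2⟩

theorem isZero_stalk_RpushAb (y : Y) (hd : topologicalKrullDim ↥(f.fiber y) ≤ d) (M : X.Modules)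
    [M.IsQuasicoherent] (p : ℕ) (hp : d < p) :
    Limits.IsZero (TopCat.Presheaf.stalk ((Coh.RpushAb f p).obj (Coh.toAb M)).obj y) := by
  obtain ⟨q, rfl⟩ : ∃ q, p = q + 1 := ⟨p - 1, by omega⟩
  haveI hiso := TopCat.Presheaf.stalkFunctor_map_unit_toSheafify_isIso y AddCommGrpCat.{u}
    (Groth.Agent.TopCoh49.hPre f.base (Coh.toAb M) (q + 1))
  refine Limits.IsZero.of_iso ?_ ((TopCat.Presheaf.stalkFunctor AddCommGrpCat.{u} y).mapIso
    ((sheafToPresheaf _ _).mapIso (Groth.Agent.TopCoh49.RpushIso f.base (Coh.toAb M) (q + 1))) ≪≫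
      (@asIso _ _ _ _ _ hiso).symm)
  refine @AddCommGrpCat.isZero_of_subsingleton _ (subsingleton_of_forall_eq 0 fun e => ?_)
  obtain ⟨U, hyU, s, rfl⟩ := TopCat.Presheaf.exists_germ_eq _ e
  obtain ⟨W, hW, hyW, hWU, hWd⟩ := exists_affine_nhd f y hd U hyU
  haveI : Subsingleton ((Groth.Agent.TopCoh49.hPre f.base (Coh.toAb M) (q + 1)).obj (Opposite.op W)) :=
    subsingleton_HE_preimage f hW hWd hp M
  rw [← TopCat.Presheaf.germ_res_apply _ (homOfLE hWU) y hyW s]
  exact (congrArg _ (Subsingleton.elim _ 0)).trans (map_zero _)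

theorem exists_nhd_RpushAb_zero (y : Y) (hd : topologicalKrullDim ↥(f.fiber y) ≤ d) :
    ∃ V : Y.Opens, y ∈ V ∧ IsAffineOpen V ∧
      ∀ (M : (↑(f ⁻¹ᵁ V) : Scheme.{u}).Modules) (i : ℕ), Coh.IsQCoh M → d < i →
        Limits.IsZero ((Coh.RpushAb (f ∣_ V) i).obj (Coh.toAb M)) := by
  obtain ⟨V, hV, hyV, -, hVd⟩ := exists_affine_nhd f y hd ⊤ trivial
  refine ⟨V, hyV, hV, fun M i hM hi => ?_⟩
  haveI : M.IsQuasicoherent := hM
  haveI : IsProper (f ∣_ V) := MorphismProperty.of_isPullback (isPullback_morphismRestrict f V).flip inferInstance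
  haveI : LocallyOfFiniteType (f ∣_ V) := inferInstance
  have hd' : ∀ z : (V : Scheme.{u}), topologicalKrullDim ↥((f ∣_ V).fiber z) ≤ d := fun z => by
    refine (E4O.dim_fiber_le_iff _ z _).2 fun x _ => ?_
    refine le_trans (by exact_mod_cast E4O.fdeg_le_of_isPullback (isPullback_morphismRestrict f V).flip x)
      ((E4O.dim_fiber_le_iff f _ _).1 (hVd _ ?_) ((f ⁻¹ᵁ V).ι x) rfl)
    exact x.2
  refine Coh69.isZero_RpushAb_of_subsingleton _ _ _ fun U z hz => ?_
  obtain ⟨W, hW, hzW, hWU⟩ := exists_isAffineOpen_mem_and_subset (x := z) (U := U) hz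
  exact ⟨W, hWU, hzW, subsingleton_HE_preimage (f ∣_ V) hW (fun y _ => hd' y) hi M⟩

end Groth.Agent.Proper66
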